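import Mathlib

/-!
# Integer vectors with Gram matrix `m + δ_ij`, orthogonal to a positive vector

At least two distinct integer vectors with squared norms `m + 1` and pairwise inner products `m`, all
orthogonal to one positive vector, differ pairwise by differences of unit vectors at places which depend
on one of the vectors only.
-/

set_option autoImplicit false

namespace Cfsg.Agent.H656.Diff

open Finset

variable {B : Type*} [Fintype B] [DecidableEq B]

/-- An integer vector of squared norm two orthogonal to a positive vector is a difference of two unit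
vectors. -/
theorem exists_single_sub (w : B → ℤ) (f : B → ℝ) (hf : ∀ x, 0 < f x) (h2 : ∑ x, w x * w x = 2)
    (h0 : ∑ x, (w x : ℝ) * f x = 0) :
    ∃ x y, x ≠ y ∧ ∀ z, w z = (if z = x then 1 else 0) - (if z = y then 1 else 0) := by
  have hne : ∃ x, w x ≠ 0 := by
    by_contra hcon
    push Not at hcon
    simp [hcon] at h2
  obtain ⟨x₀, hx₀⟩ := hne
  have hpos : ∃ x, 0 < w x := by
    by_contra hcon
    push Not at hcon
    have h1 : ∑ x, (w x : ℝ) * f x < 0 := by
      apply Finset.sum_neg'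
      · intro x _
        exact mul_nonpos_of_nonpos_of_nonneg (by exact_mod_cast hcon x) (hf x).le
      · refine ⟨x₀, mem_univ _, mul_neg_of_neg_of_pos ?_ (hf x₀)⟩
        exact_mod_cast lt_of_le_of_ne (hcon x₀) hx₀
    linarith
  have hneg : ∃ x, w x < 0 := by
    by_contra hcon
    push Not at hcon
    have h1 : 0 < ∑ x, (w x : ℝ) * f x := by
      apply Finset.sum_pos'
      · intro x _
        exact mul_nonneg (by exact_mod_cast hcon x) (hf x).le
      · refine ⟨x₀, mem_univ _, mul_pos ?_ (hf x₀)⟩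
        exact_mod_cast lt_of_le_of_ne (hcon x₀) (Ne.symm hx₀)
    linarith
  obtain ⟨x, hx⟩ := hpos
  obtain ⟨y, hy⟩ := hneg
  have hxy : x ≠ y := by
    rintro rfl
    omega
  have hx1 : 1 ≤ w x * w x := by nlinarith
  have hy1 : 1 ≤ w y * w y := by nlinarith
  have hsum : w x * w x + w y * w y + ∑ z ∈ (univ.erase x).erase y, w z * w z = 2 := by
    rw [← h2, ← Finset.add_sum_erase univ _ (mem_univ x),
      ← Finset.add_sum_erase (univ.erase x) _ (mem_erase.mpr ⟨hxy.symm, mem_univ y⟩)]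
    ring
  have hnn : 0 ≤ ∑ z ∈ (univ.erase x).erase y, w z * w z :=
    Finset.sum_nonneg fun z _ => mul_self_nonneg _
  have hx2 : w x * w x = 1 := by omega
  have hy2 : w y * w y = 1 := by omega
  have hz : ∑ z ∈ (univ.erase x).erase y, w z * w z = 0 := by omega
  have hwx : w x = 1 := by nlinarith
  have hwy : w y = -1 := by nlinarith
  rw [Finset.sum_eq_zero_iff_of_nonneg (fun z _ => mul_self_nonneg _)] at hz
  refine ⟨x, y, hxy, fun z => ?_⟩
  by_cases hzx : z = x
  · rw [hzx, hwx]; simp [hxy]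
  by_cases hzy : z = y
  · rw [hzy, hwy]; simp [hxy.symm]
  · have := hz z (mem_erase.mpr ⟨hzy, mem_erase.mpr ⟨hzx, mem_univ z⟩⟩)
    rw [mul_self_eq_zero] at this
    simp [hzx, hzy, this]

/-- The main combinatorial lemma. -/
theorem main (A : Finset (B → ℤ)) (hA : A.Nonempty) (f : B → ℝ) (hf : ∀ x, 0 < f x)
    (h0 : ∀ a ∈ A, ∑ x, (a x : ℝ) * f x = 0) (m : ℤ) (hd : ∀ a ∈ A, ∑ x, a x * a x = m + 1)
    (ho : ∀ a ∈ A, ∀ b ∈ A, a ≠ b → ∑ x, a x * b x = m) (hA2 : 2 ≤ A.card) :
    ∃ (δ : ℤ) (Y : (B → ℤ) → B), (δ = 1 ∨ δ = -1) ∧ Set.InjOn Y (A : Set (B → ℤ)) ∧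
      ∀ a ∈ A, ∀ b ∈ A, ∀ x, a x - b x =
        -δ * ((if x = Y a then 1 else 0) - (if x = Y b then 1 else 0)) := by
  classical
  obtain ⟨b₀, hb₀⟩ := hA
  have hsub : ∀ a ∈ A, ∀ b ∈ A, ∀ c ∈ A, ∑ x, (a x - b x) * (c x - b x) =
      ∑ x, a x * c x - ∑ x, a x * b x - ∑ x, b x * c x + ∑ x, b x * b x := by
    intro a _ b _ c _
    rw [← Finset.sum_sub_distrib, ← Finset.sum_sub_distrib, ← Finset.sum_add_distrib]
    refine Finset.sum_congr rfl fun x _ => ?_
    ring
  have hex : ∀ a : B → ℤ, ∃ x y : B, a ∈ A → a ≠ b₀ → x ≠ y ∧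
      ∀ z, a z - b₀ z = (if z = x then 1 else 0) - (if z = y then 1 else 0) := by
    intro a
    by_cases h : a ∈ A ∧ a ≠ b₀
    · obtain ⟨x, y, hxy, h1⟩ := exists_single_sub (fun z => a z - b₀ z) f hf (by
        rw [hsub a h.1 b₀ hb₀ a h.1, hd a h.1, hd b₀ hb₀, ho a h.1 b₀ hb₀ h.2,
          ho b₀ hb₀ a h.1 h.2.symm]
        ring) (by
        have h1 := h0 a h.1
        have h2 := h0 b₀ hb₀
        have h3 : ∑ x, ((a x - b₀ x : ℤ) : ℝ) * f x = ∑ x, (a x : ℝ) * f x - ∑ x, (b₀ x : ℝ) * f x := by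
          rw [← Finset.sum_sub_distrib]
          refine Finset.sum_congr rfl fun x _ => ?_
          push_cast
          ring
        rw [h3, h1, h2, sub_zero])
      exact ⟨x, y, fun _ _ => ⟨hxy, h1⟩⟩
    · obtain ⟨a', ha', hne⟩ := Finset.exists_mem_ne (by omega : 1 < A.card) b₀
      obtain ⟨x, y, -, -⟩ := exists_single_sub (fun z => a' z - b₀ z) f hf (by
        rw [hsub a' ha' b₀ hb₀ a' ha', hd a' ha', hd b₀ hb₀, ho a' ha' b₀ hb₀ hne,
          ho b₀ hb₀ a' ha' hne.symm]
        ring) (by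
        have h1 := h0 a' ha'
        have h2 := h0 b₀ hb₀
        have h3 : ∑ x, ((a' x - b₀ x : ℤ) : ℝ) * f x =
            ∑ x, (a' x : ℝ) * f x - ∑ x, (b₀ x : ℝ) * f x := by
          rw [← Finset.sum_sub_distrib]
          refine Finset.sum_congr rfl fun x _ => ?_
          push_cast
          ring
        rw [h3, h1, h2, sub_zero])
      exact ⟨x, y, fun h1 h2 => absurd ⟨h1, h2⟩ h⟩
  choose P Q hPQ using hex
  have hpair : ∀ a ∈ A, a ≠ b₀ → ∀ a' ∈ A, a' ≠ b₀ → a ≠ a' → P a = P a' ∨ Q a = Q a' := by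
    intro a ha hab a' ha' hab' haa
    have h1 : ∑ x, (a x - b₀ x) * (a' x - b₀ x) = 1 := by
      rw [hsub a ha b₀ hb₀ a' ha', ho a ha a' ha' haa, ho a ha b₀ hb₀ hab, ho b₀ hb₀ a' ha' hab'.symm,
        hd b₀ hb₀]
      ring
    have h2 := (hPQ a ha hab).2
    have h3 := (hPQ a' ha' hab').2
    by_contra hcon
    push Not at hcon
    have h4 : ∑ x, (a x - b₀ x) * (a' x - b₀ x) =
        - (if P a = Q a' then 1 else 0) - (if Q a = P a' then 1 else 0) := by
      calc ∑ x, (a x - b₀ x) * (a' x - b₀ x)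
          = ∑ x, ((if x = P a then (if x = P a' then (1 : ℤ) else 0) - (if x = Q a' then 1 else 0) else 0)
            - (if x = Q a then (if x = P a' then (1 : ℤ) else 0) - (if x = Q a' then 1 else 0) else 0)) := by
            refine Finset.sum_congr rfl fun x _ => ?_
            rw [h2 x, h3 x]
            split_ifs <;> ring
        _ = - (if P a = Q a' then 1 else 0) - (if Q a = P a' then 1 else 0) := by
            rw [Finset.sum_sub_distrib, Finset.sum_ite_eq', Finset.sum_ite_eq']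
            simp [hcon.1, hcon.2]
    rw [h4] at h1
    split_ifs at h1 <;> omega
  obtain ⟨a₁, ha₁, hne₁⟩ := Finset.exists_mem_ne (by omega : 1 < A.card) b₀
  have hdich : (∀ a ∈ A, a ≠ b₀ → Q a = Q a₁) ∨ (∀ a ∈ A, a ≠ b₀ → P a = P a₁) := by
    by_contra hcon
    push Not at hcon
    obtain ⟨⟨a, ha, hab, hQ⟩, ⟨a', ha', hab', hP⟩⟩ := hcon
    have h1 : a ≠ a₁ := fun h => hQ (by rw [h])
    have h2 : a' ≠ a₁ := fun h => hP (by rw [h])
    have h3 := hpair a ha hab a₁ ha₁ hne₁ h1
    have h4 := hpair a' ha' hab' a₁ ha₁ hne₁ h2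
    have h3' : P a = P a₁ := h3.resolve_right hQ
    have h4' : Q a' = Q a₁ := h4.resolve_left hP
    have h5 : a ≠ a' := by
      rintro rfl
      exact hP h3'
    rcases hpair a ha hab a' ha' hab' h5 with h6 | h6
    · exact hP (by rw [← h6, h3'])
    · exact hQ (by rw [h6, h4'])
  have hinj : ∀ (δ : ℤ) (Y : (B → ℤ) → B), (∀ a ∈ A, ∀ b ∈ A, ∀ x, a x - b x =
        -δ * ((if x = Y a then 1 else 0) - (if x = Y b then 1 else 0))) →
        Set.InjOn Y (A : Set (B → ℤ)) := by
    intro δ Y h a ha b hb hab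
    funext x
    have h1 := h a ha b hb x
    rw [hab, sub_self, mul_zero] at h1
    omega
  rcases hdich with hQ | hP
  · -- `a - b₀ = e (P a) - e (Q a₁)`
    have hmain : ∀ a ∈ A, ∀ x, a x - b₀ x = -(-1) *
        ((if x = (if a = b₀ then Q a₁ else P a) then 1 else 0) - (if x = Q a₁ then 1 else 0)) := by
      intro a ha x
      by_cases h : a = b₀
      · simp [h]
      · rw [if_neg h, (hPQ a ha h).2 x, hQ a ha h]
        ring
    refine ⟨-1, fun a => if a = b₀ then Q a₁ else P a, Or.inr rfl, hinj (-1) _ ?_, ?_⟩ <;>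
    · intro a ha b hb x
      have h1 := hmain a ha x
      have h2 := hmain b hb x
      have h3 : a x - b x = (a x - b₀ x) - (b x - b₀ x) := by ring
      rw [h3, h1, h2]
      ring
  · have hmain : ∀ a ∈ A, ∀ x, a x - b₀ x = -1 *
        ((if x = (if a = b₀ then P a₁ else Q a) then 1 else 0) - (if x = P a₁ then 1 else 0)) := by
      intro a ha x
      by_cases h : a = b₀
      · simp [h]
      · rw [if_neg h, (hPQ a ha h).2 x, hP a ha h]
        ring
    refine ⟨1, fun a => if a = b₀ then P a₁ else Q a, Or.inl rfl, hinj 1 _ ?_, ?_⟩ <;>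
    · intro a ha b hb x
      have h1 := hmain a ha x
      have h2 := hmain b hb x
      have h3 : a x - b x = (a x - b₀ x) - (b x - b₀ x) := by ring
      rw [h3, h1, h2]
      ring

end Cfsg.Agent.H656.Diff
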