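import Mathlib
import Cfsg.Prelude.Def_Blocks
import Cfsg.Agent.Characters.Core
import Cfsg.Agent.Blocks.PPart
import Cfsg.Agent.Blocks.SemiregularGram
import Cfsg.Agent.Blocks.SylowColumns
import Cfsg.Agent.Blocks.PrincipalSection
import Cfsg.Agent.S0189
import Cfsg.Agent.S0914
import Cfsg.Agent.S0925
import Cfsg.Agent.S0942
import Cfsg.Agent.H656.Diff

/-!
# The principal block of a group with abelian Sylow `p`-subgroup and semiregular normalizer action

`P` is an abelian Sylow `p`-subgroup of `G` and `C_G(z) ∩ N_G(P) = C_G(P)` for all `1 ≠ z ∈ P`.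
-/

set_option autoImplicit false
set_option linter.style.haveILetI false

open scoped ComplexConjugate
open Cfsg Cfsg.Agent.Characters.Core Cfsg.Agent.Blocks.SemiregularGram

namespace Cfsg.Agent.H656.FrobBlock

universe u

variable {G : Type u} [Group G] [Finite G] {p : ℕ} [Fact p.Prime]

/-- Characters of the principal block are constant on the `p`-sections of the elements of `P`. -/
theorem apply_eq_of_isPPart (M : Ideal AlgInt) (hM : IsPModular p M) (P : Sylow p G)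
    (hab : ∀ x y : P, x * y = y * x)
    (hsr : ∀ z ∈ (P : Subgroup G), z ≠ 1 →
      Subgroup.centralizer ({z} : Set G) ⊓ Subgroup.normalizer ((P : Subgroup G) : Set G) =
      Subgroup.centralizer ((P : Subgroup G) : Set G))
    {χ : IrrCharacter G} (hχ : χ ∈ principalBlock M G) {z y : G} (hz : IsPPart p z y)
    (hy : y ∈ (P : Subgroup G)) (hy1 : y ≠ 1) : (χ : G → ℂ) z = (χ : G → ℂ) y := by
  obtain ⟨v, rfl, hyv, hyp, hv⟩ := hz
  refine Cfsg.Agent.S0942.result p M hM y hyp v ?_ χ hχ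
  have hle : (P : Subgroup G) ≤ Subgroup.centralizer ({y} : Set G) := by
    intro x hx
    rw [Subgroup.mem_centralizer_singleton_iff]
    exact congrArg Subtype.val (hab ⟨x, hx⟩ ⟨y, hy⟩)
  have h1 := Cfsg.Agent.Blocks.SylowColumns.exists_index_pPrimeCore (P.subtype hle)
    (Cfsg.Agent.Blocks.SylowColumns.normalizer_le_centralizer P y hle (hsr y hy hy1))
  have hvC : v ∈ Subgroup.centralizer ({y} : Set G) := by
    rw [Subgroup.mem_centralizer_singleton_iff]
    exact hyv.eq.symm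
  have h2 : (⟨v, hvC⟩ : Subgroup.centralizer ({y} : Set G)) ∈
      pPrimeCore p (Subgroup.centralizer ({y} : Set G)) := by
    refine Cfsg.Agent.Blocks.PrincipalSection.mem_pPrimeCore_of_regular h1 ?_
    rwa [Subgroup.orderOf_mk]
  exact Subgroup.mem_map.mpr ⟨_, h2, rfl⟩

/-- The degree of a character of the principal block vanishing on `P - 1`. -/
theorem exists_apply_ne_zero (M : Ideal AlgInt) (hM : IsPModular p M) (P : Sylow p G)
    {χ ψ : IrrCharacter G} (hχ : χ ∈ principalBlock M G) (hψ : ψ ∈ principalBlock M G) (hne : ψ ≠ χ) :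
    ∃ y ∈ (P : Subgroup G), y ≠ 1 ∧ (χ : G → ℂ) y ≠ 0 := by
  by_contra hcon
  push Not at hcon
  obtain ⟨k, hk⟩ := Cfsg.Agent.S0189.result p P (χ : G → ℂ) (isIrr_isCharacter χ.2)
    (fun g hg hg1 => hcon g hg hg1)
  obtain ⟨hd1, hd0, hdd⟩ := Cfsg.Agent.S0914.degree_spec χ
  have h1 : charDegree (χ : G → ℂ) = Nat.card P * k := by
    rw [hd1] at hk
    exact_mod_cast hk
  have hM' : M.IsPrime := hM.2.1.isPrime
  have h2 : ¬ p ∣ Nat.card G / charDegree (χ : G → ℂ) := by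
    intro hdiv
    obtain ⟨l, hl⟩ := hdd
    rw [hl, Nat.mul_div_cancel_left _ hd0] at hdiv
    obtain ⟨j, hj⟩ := hdiv
    have h3 : Nat.card P * p ∣ Nat.card G := ⟨k * j, by rw [hl, h1, hj]; ring⟩
    have h6 : p ^ ((Nat.card G).factorization p + 1) ∣ Nat.card G := by
      rw [pow_succ, ← Sylow.card_eq_multiplicity P]
      exact h3
    exact Nat.pow_succ_factorization_not_dvd Nat.card_pos.ne' Fact.out h6
  rw [Cfsg.Agent.S0914.result p M hM χ] at h2
  have h3 : blockOf M (χ : G → ℂ) = principalBlock M G :=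
    (Cfsg.Agent.Blocks.Basic.blockOf_eq_of_sameBlock hχ).symm
  rw [h3] at h2
  rw [h2] at hψ
  exact hne hψ

open scoped Classical in
theorem main (M : Ideal AlgInt) (hM : IsPModular p M) (P : Sylow p G)
    (hab : ∀ x y : P, x * y = y * x) (m : ℕ) (hm2 : m + 1 < Nat.card P)
    (hCN : (Subgroup.centralizer ((P : Subgroup G) : Set G)).relIndex
      (Subgroup.normalizer ((P : Subgroup G) : Set G)) = m)
    (hsr : ∀ z ∈ (P : Subgroup G), z ≠ 1 →
      Subgroup.centralizer ({z} : Set G) ⊓ Subgroup.normalizer ((P : Subgroup G) : Set G) =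
      Subgroup.centralizer ((P : Subgroup G) : Set G)) :
    ∃ (s : ℕ) (X Y : Set (IrrCharacter G)), s ≤ m ∧ principalBlock M G = X ∪ Y ∧ Disjoint X Y ∧
      Nat.card X = s ∧ Nat.card Y = (Nat.card P - 1) / m ∧
      (∃ χ₁ ∈ X, (χ₁ : G → ℂ) = fun _ => 1) ∧
      ∃ (a : IrrCharacter G → ℤ) (d δ : ℤ) (ζ : (↥(P : Subgroup G) →* ℂˣ) → IrrCharacter G),
        (δ = 1 ∨ δ = -1) ∧
        (∀ χ ∈ X, a χ ≠ 0 ∧ ∀ z y : G, IsPPart p z y → y ∈ (P : Subgroup G) → y ≠ 1 →
          (χ : G → ℂ) z = (a χ : ℂ)) ∧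
        (∀ ψ : ↥(P : Subgroup G) →* ℂˣ, ψ ≠ 1 → ζ ψ ∈ Y) ∧
        (∀ η ∈ Y, ∃ ψ : ↥(P : Subgroup G) →* ℂˣ, ψ ≠ 1 ∧ ζ ψ = η) ∧
        (∀ ψ ψ' : ↥(P : Subgroup G) →* ℂˣ, ψ ≠ 1 → ψ' ≠ 1 →
          ((∃ s ∈ (P : Subgroup G).normalizerMonoidHom.range, ψ'.comp s.toMonoidHom = ψ) ↔
            ζ ψ = ζ ψ')) ∧
        (∀ ψ : ↥(P : Subgroup G) →* ℂˣ, ψ ≠ 1 → ∀ (z : G) (y : ↥(P : Subgroup G)),
          IsPPart p z (y : G) → y ≠ 1 → (ζ ψ : G → ℂ) z = (d : ℂ) + (δ : ℂ) *
            ∑ᶠ ψ' ∈ {ψ' : ↥(P : Subgroup G) →* ℂˣ | ∃ s ∈ (P : Subgroup G).normalizerMonoidHom.range,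
              ψ'.comp s.toMonoidHom = ψ}, ((ψ' y : ℂˣ) : ℂ)) ∧
        ((d - δ) ^ 2 + ((((Nat.card P - 1) / m : ℕ) : ℤ) - 1) * d ^ 2 + ∑ᶠ χ ∈ X, a χ ^ 2 =
          (m : ℤ) + 1) ∧
        (∀ η ∈ Y, ∀ η' ∈ Y, ∀ g : G, ¬ p ∣ orderOf g → (η : G → ℂ) g = (η' : G → ℂ) g) ∧
        (∀ η ∈ Y, ∀ g : G, ¬ p ∣ orderOf g →
          ((((Nat.card P - 1) / m : ℕ) : ℂ) * d - δ) * (η : G → ℂ) g +
            ∑ᶠ χ ∈ X, (a χ : ℂ) * (χ : G → ℂ) g = 0) := by
  have hfinG : Finite (IrrCharacter G) := finite_irr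
  letI : Fintype (IrrCharacter G) := Fintype.ofFinite _
  letI : Fintype P := Fintype.ofFinite P
  have := finite_hom P
  letI : Fintype (P →* ℂˣ) := Fintype.ofFinite _
  set E : Subgroup (MulAut P) := (P : Subgroup G).normalizerMonoidHom.range with hE
  letI : Fintype E := Fintype.ofFinite E
  have hEcard : Nat.card E = m := by
    rw [← hCN, hE]
    exact Cfsg.Agent.Blocks.SylowColumns.card_range (P : Subgroup G)
  have hMp : M.IsPrime := hM.2.1.isPrime
  have hfin : (principalBlock M G).Finite := Set.toFinite _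
  have hfus := Cfsg.Agent.Blocks.SylowColumns.fus P hab
  have hsr' := Cfsg.Agent.Blocks.SylowColumns.sr (P : Subgroup G) hsr
  have horth := Cfsg.Agent.Blocks.SylowColumns.columns M hM P hab hsr hfin
  rw [← hE] at hsr'
  set B := hfin.toFinset with hBdef
  have hgram := gram (P : Subgroup G) hab E hfus hsr' B horth
  -- the trivial character
  let o : IrrCharacter G := ⟨fun _ => 1, isIrr_one⟩
  have hoB : o ∈ principalBlock M G := Cfsg.Agent.Blocks.PrincipalSection.one_mem_principalBlock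
  -- integer coefficients
  choose n hn using fun (χ : IrrCharacter G) (l : P →* ℂˣ) =>
    coef_int (P : Subgroup G) (isIrr_isCharacter χ.2) l
  let a : (P →* ℂˣ) → IrrCharacter G → ℤ := fun l χ => if χ ∈ B then n χ l else 0
  have ha : ∀ l χ, χ ∈ B → (a l χ : ℂ) = coef (P : Subgroup G) (χ : G → ℂ) l := by
    intro l χ hχ
    simp only [a, hχ, if_true]
    exact (hn χ l).symm
  have ha0 : ∀ l χ, χ ∉ B → a l χ = 0 := by
    intro l χ hχ
    simp only [a, hχ, if_false]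
  have hgramZ : ∀ l m' : P →* ℂˣ, l ≠ 1 → m' ≠ 1 →
      ∑ χ, a l χ * a m' χ = m + if ∃ s ∈ E, m'.comp s.toMonoidHom = l then 1 else 0 := by
    intro l m' hl hm
    have h1 := hgram l m' hl hm
    have h2 : ((∑ χ, a l χ * a m' χ : ℤ) : ℂ) =
        ∑ χ ∈ B, coef (P : Subgroup G) (χ : G → ℂ) l * conj (coef (P : Subgroup G) (χ : G → ℂ) m') := by
      rw [← Finset.sum_subset (Finset.subset_univ B) (fun χ _ hχ => by rw [ha0 l χ hχ, zero_mul])]
      push_cast
      refine Finset.sum_congr rfl fun χ hχ => ?_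
      rw [← ha l χ hχ, ← ha m' χ hχ]
      simp
    rw [h1, hEcard] at h2
    have h3 : ((∑ χ, a l χ * a m' χ : ℤ) : ℂ) =
        (((m : ℤ) + if ∃ s ∈ E, m'.comp s.toMonoidHom = l then 1 else 0 : ℤ) : ℂ) := by
      rw [h2]
      push_cast
      rfl
    exact_mod_cast h3
  have hself : ∀ l : P →* ℂˣ, ∃ s ∈ E, l.comp s.toMonoidHom = l :=
    fun l => ⟨1, E.one_mem, by ext; rfl⟩
  have hsymm : ∀ l m' : P →* ℂˣ, (∃ s ∈ E, m'.comp s.toMonoidHom = l) →
      ∃ s ∈ E, l.comp s.toMonoidHom = m' := by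
    rintro l m' ⟨s, hs, rfl⟩
    refine ⟨s⁻¹, E.inv_mem hs, ?_⟩
    ext x
    simp [MonoidHom.comp_apply]
  have heq_iff : ∀ l m' : P →* ℂˣ, l ≠ 1 → m' ≠ 1 →
      (a l = a m' ↔ ∃ s ∈ E, m'.comp s.toMonoidHom = l) := by
    intro l m' hl hm
    constructor
    · intro h
      by_contra hcon
      have h1 := hgramZ l m' hl hm
      rw [if_neg hcon, h] at h1
      have h2 := hgramZ m' m' hm hm
      rw [if_pos (hself m')] at h2
      omega
    · intro h
      have h1 := hgramZ l m' hl hm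
      rw [if_pos h] at h1
      have h2 := hgramZ m' m' hm hm
      rw [if_pos (hself m')] at h2
      have h3 := hgramZ l l hl hl
      rw [if_pos (hself l)] at h3
      have h4 : ∑ χ, (a l χ - a m' χ) ^ 2 = 0 := by
        have : ∀ χ, (a l χ - a m' χ) ^ 2 = a l χ * a l χ - 2 * (a l χ * a m' χ) + a m' χ * a m' χ := by
          intro χ; ring
        simp only [this]
        rw [Finset.sum_add_distrib, Finset.sum_sub_distrib, ← Finset.mul_sum, h1, h2, h3]
        ring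
      rw [Finset.sum_eq_zero_iff_of_nonneg (fun χ _ => sq_nonneg _)] at h4
      funext χ
      have h5 := h4 χ (Finset.mem_univ χ)
      rw [sq_eq_zero_iff] at h5
      omega
  -- orthogonality to the `p`-regular columns
  have hreg : ∀ l : P →* ℂˣ, ∀ g : G, ¬ p ∣ orderOf g →
      ∑ χ, (a l χ : ℂ) * (χ : G → ℂ) g = 0 := by
    intro l g hg
    have h1 : ∑ χ, (a l χ : ℂ) * (χ : G → ℂ) g =
        ∑ χ ∈ B, coef (P : Subgroup G) (χ : G → ℂ) l * (χ : G → ℂ) g := by
      rw [← Finset.sum_subset (Finset.subset_univ B) (fun χ _ hχ => by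
        rw [ha0 l χ hχ]; simp)]
      exact Finset.sum_congr rfl fun χ hχ => by rw [← ha l χ hχ]
    have h2 : ∀ u : P, u ≠ 1 → ∑ χ ∈ B, (χ : G → ℂ) u * (χ : G → ℂ) g = 0 := by
      intro u hu
      have hup : ∃ k : ℕ, orderOf (u : G) = p ^ k := by
        rw [orderOf_submonoid]
        exact (IsPGroup.iff_orderOf.mp P.isPGroup') u
      have h3 : IsPPart p (u : G) (u : G) := by
        refine ⟨1, mul_one _, Commute.one_right _, hup, ?_⟩
        rw [orderOf_one]
        exact (Fact.out : p.Prime).not_dvd_one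
      have h4 : IsPPart p g⁻¹ 1 := by
        refine ⟨g⁻¹, one_mul _, Commute.one_left _, ⟨0, by simp⟩, ?_⟩
        rwa [orderOf_inv]
      have h5 : ¬ IsConj (u : G) 1 := by
        intro h
        rw [isConj_comm, isConj_one_right] at h
        exact hu (Subtype.ext h)
      have h6 := (Cfsg.Agent.S0925.result p M hM).2 (u : G) g⁻¹ (u : G) 1 h3 h4 h5 _
        (Cfsg.Agent.Blocks.PrincipalSection.isPBlock_principalBlock)
      rw [finsum_mem_eq_finite_toFinset_sum _ hfin, inv_inv] at h6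
      exact h6
    rw [h1]
    have h3 : ∀ χ ∈ B, coef (P : Subgroup G) (χ : G → ℂ) l * (χ : G → ℂ) g =
        (Nat.card P : ℂ)⁻¹ * ∑ u : P, (1 - conj (toFun l u)) * ((χ : G → ℂ) u * (χ : G → ℂ) g) := by
      intro χ _
      rw [coef_eq, mul_assoc, Finset.sum_mul]
      congr 1
      exact Finset.sum_congr rfl fun u _ => by ring
    rw [Finset.sum_congr rfl h3, ← Finset.mul_sum, Finset.sum_comm]
    refine mul_eq_zero_of_right _ (Finset.sum_eq_zero fun u _ => ?_)
    rw [← Finset.mul_sum]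
    by_cases hu : u = 1
    · rw [hu]; simp [toFun]
    · rw [h2 u hu, mul_zero]
  -- the positive vector
  let f : IrrCharacter G → ℝ := fun χ => ((χ : G → ℂ) 1).re
  have hf : ∀ χ, 0 < f χ := by
    intro χ
    obtain ⟨k, hk, hk1⟩ := isIrr_apply_one χ.2
    simp only [f, hk1, Complex.natCast_re]
    exact_mod_cast hk
  have hf0 : ∀ l, ∑ χ, (a l χ : ℝ) * f χ = 0 := by
    intro l
    have h1 := hreg l 1 (by rw [orderOf_one]; exact (Fact.out : p.Prime).not_dvd_one)
    have h2 := congrArg Complex.re h1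
    rw [Complex.re_sum, Complex.zero_re] at h2
    rw [← h2]
    refine Finset.sum_congr rfl fun χ _ => ?_
    simp [f]
  -- the vectors
  set L : Finset (P →* ℂˣ) := Finset.univ.erase 1 with hL
  have hLmem : ∀ l, l ∈ L ↔ l ≠ 1 := by intro l; simp [hL]
  set A : Finset (IrrCharacter G → ℤ) := L.image a with hA
  have hLcard : L.card = Nat.card P - 1 := by
    rw [hL, Finset.card_erase_of_mem (Finset.mem_univ _), Finset.card_univ]
    have h1 := card_hom (P := P) hab
    have h2 : Fintype.card (P →* ℂˣ) = Nat.card P := by exact_mod_cast h1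
    rw [h2]
  have hcard : L.card = A.card * m := by
    rw [Finset.card_eq_sum_card_image a L, ← hA, Finset.sum_const_nat]
    intro v hv
    obtain ⟨l₀, hl₀, rfl⟩ := Finset.mem_image.mp hv
    rw [hLmem] at hl₀
    have h1 : ({l ∈ L | a l = a l₀} : Finset (P →* ℂˣ)) =
        Finset.univ.image (fun s : E => l₀.comp (s : MulAut P).toMonoidHom) := by
      ext l
      rw [Finset.mem_filter, Finset.mem_image, hLmem]
      constructor
      · rintro ⟨h2, h3⟩
        obtain ⟨s, hs, h4⟩ := (heq_iff l l₀ h2 hl₀).mp h3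
        exact ⟨⟨s, hs⟩, Finset.mem_univ _, h4⟩
      · rintro ⟨s, -, rfl⟩
        have h2 : l₀.comp (s : MulAut P).toMonoidHom ≠ 1 := by
          intro h
          apply hl₀
          ext x
          have h3 := DFunLike.congr_fun h ((s : MulAut P)⁻¹ x)
          simp only [MonoidHom.comp_apply, MulEquiv.coe_toMonoidHom, MulAut.apply_inv_self,
            MonoidHom.one_apply] at h3
          rw [h3]
          simp
        exact ⟨h2, (heq_iff _ l₀ h2 hl₀).mpr ⟨s, s.2, rfl⟩⟩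
    rw [h1, Finset.card_image_of_injective, Finset.card_univ, ← Nat.card_eq_fintype_card, hEcard]
    intro s t hst
    have h2 : l₀.comp ((s : MulAut P) * (t : MulAut P)⁻¹).toMonoidHom = l₀ := by
      ext x
      have h3 := DFunLike.congr_fun hst ((t : MulAut P)⁻¹ x)
      simp only [MonoidHom.comp_apply, MulEquiv.coe_toMonoidHom, MulAut.apply_inv_self] at h3
      rw [← h3]
      rfl
    have h4 := comp_eq_self hab _ (hsr' _ (E.mul_mem s.2 (E.inv_mem t.2))) l₀ hl₀ h2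
    exact Subtype.ext (mul_inv_eq_one.mp h4)
  have hm0 : 0 < m := by
    rw [← hEcard]
    exact Nat.card_pos
  have hAcard : A.card = (Nat.card P - 1) / m := by
    rw [← hLcard, hcard, Nat.mul_div_cancel _ hm0]
  have hA2 : 2 ≤ A.card := by
    by_contra hcon
    have h1 : A.card * m ≤ 1 * m := Nat.mul_le_mul_right _ (by omega)
    rw [← hcard, hLcard] at h1
    omega
  have hAne : A.Nonempty := by
    rw [← Finset.card_pos]; omega
  have hAmem : ∀ v, v ∈ A ↔ ∃ l, l ≠ 1 ∧ a l = v := by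
    intro v
    rw [hA, Finset.mem_image]
    simp only [hLmem]
  have hAd : ∀ v ∈ A, ∑ x, v x * v x = (m : ℤ) + 1 := by
    intro v hv
    obtain ⟨l, hl, rfl⟩ := (hAmem v).mp hv
    rw [hgramZ l l hl hl, if_pos (hself l)]
  have hAo : ∀ v ∈ A, ∀ w ∈ A, v ≠ w → ∑ x, v x * w x = (m : ℤ) := by
    intro v hv w hw hvw
    obtain ⟨l, hl, rfl⟩ := (hAmem v).mp hv
    obtain ⟨l', hl', rfl⟩ := (hAmem w).mp hw
    rw [hgramZ l l' hl hl', if_neg (fun h => hvw ((heq_iff l l' hl hl').mpr h)), add_zero]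
  have hAB : ∀ v ∈ A, ∀ x, x ∉ principalBlock M G → v x = 0 := by
    intro v hv x hx
    obtain ⟨l, hl, rfl⟩ := (hAmem v).mp hv
    refine ha0 l x fun h => hx ?_
    rwa [hBdef, Set.Finite.mem_toFinset] at h
  obtain ⟨δ, Y, hδ, hYinj, hY⟩ := Diff.main A hAne f hf (by
    intro v hv
    obtain ⟨l, hl, rfl⟩ := (hAmem v).mp hv
    exact hf0 l) m hAd hAo hA2
  have hδ2 : δ * δ = 1 := by rcases hδ with h | h <;> rw [h] <;> norm_num
  have hδ0 : δ ≠ 0 := by rcases hδ with h | h <;> rw [h] <;> norm_num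
  have hYY : ∀ v ∈ A, ∀ w ∈ A, (Y v = Y w ↔ v = w) :=
    fun v hv w hw => ⟨fun h => hYinj hv hw h, fun h => by rw [h]⟩
  have hYB : ∀ v ∈ A, Y v ∈ principalBlock M G := by
    intro v hv
    by_contra hcon
    obtain ⟨w, hw, hne⟩ := Finset.exists_mem_ne (by omega : 1 < A.card) v
    have h1 := hY v hv w hw (Y v)
    rw [hAB v hv _ hcon, hAB w hw _ hcon, if_pos rfl,
      if_neg (fun h => hne ((hYY v hv w hw).mp h).symm)] at h1
    apply hδ0
    linarith
  set S : Finset (IrrCharacter G) := A.image Y with hS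
  have hSmem : ∀ x, x ∈ S ↔ ∃ v ∈ A, Y v = x := by
    intro x; rw [hS, Finset.mem_image]
  have hconst : ∀ x, x ∉ S → ∀ v ∈ A, ∀ w ∈ A, v x = w x := by
    intro x hx v hv w hw
    have h1 := hY v hv w hw x
    rw [if_neg (fun h => hx ((hSmem x).mpr ⟨v, hv, h.symm⟩)),
      if_neg (fun h => hx ((hSmem x).mpr ⟨w, hw, h.symm⟩)), sub_zero, mul_zero] at h1
    omega
  -- splitting sums
  have hsplit : ∀ {R : Type} [AddCommGroup R] (F : IrrCharacter G → R),
      (∀ x, x ∉ principalBlock M G → F x = 0) →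
      ∑ x, F x = ∑ᶠ x ∈ principalBlock M G \ (S : Set (IrrCharacter G)), F x + ∑ v ∈ A, F (Y v) := by
    intro R _ F hF
    rw [finsum_mem_eq_finite_toFinset_sum _ (Set.toFinite _),
      ← Finset.sum_image (g := Y) (f := F) (s := A) hYinj, ← hS,
      ← Finset.sum_union]
    · symm
      apply Finset.sum_subset (Finset.subset_univ _)
      intro x _ hx
      apply hF
      intro hxB
      apply hx
      rw [Finset.mem_union, Set.Finite.mem_toFinset]
      by_cases hxS : x ∈ S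
      · exact Or.inr hxS
      · exact Or.inl ⟨hxB, by simpa using hxS⟩
    · rw [Finset.disjoint_left]
      intro x hx hxS
      rw [Set.Finite.mem_toFinset] at hx
      exact hx.2 (by simpa using hxS)
  obtain ⟨v₀, hv₀⟩ := hAne
  -- the common value
  have hval : ∀ v ∈ A, ∀ w ∈ A, v (Y w) = (w (Y w) + δ) - δ * (if v = w then 1 else 0) := by
    intro v hv w hw
    have h1 := hY v hv w hw (Y w)
    rw [if_pos rfl] at h1
    by_cases hvw : v = w
    · rw [hvw]; simp
    · rw [if_neg (fun h => hvw ((hYY w hw v hv).mp h).symm)] at h1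
      rw [if_neg hvw]
      linarith
  set K : ℤ := ∑ᶠ x ∈ principalBlock M G \ (S : Set (IrrCharacter G)), v₀ x ^ 2 with hK
  have hnorm : ∀ v ∈ A, (m : ℤ) = K + ∑ w ∈ A, (w (Y w) + δ) ^ 2 - 2 * δ * (v (Y v) + δ) := by
    intro v hv
    have h1 := hAd v hv
    rw [hsplit (fun x => v x * v x) (fun x hx => by rw [hAB v hv x hx, mul_zero])] at h1
    have h2 : ∑ᶠ x ∈ principalBlock M G \ (S : Set (IrrCharacter G)), v x * v x = K := by
      rw [hK]
      refine finsum_mem_congr rfl fun x hx => ?_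
      rw [hconst x (by simpa using hx.2) v hv v₀ hv₀]
      ring
    have h3 : ∑ w ∈ A, v (Y w) * v (Y w) = ∑ w ∈ A, (w (Y w) + δ) ^ 2 -
        2 * δ * (v (Y v) + δ) + 1 := by
      have h4 : ∀ w ∈ A, v (Y w) * v (Y w) = (w (Y w) + δ) ^ 2 +
          (if v = w then - 2 * δ * (w (Y w) + δ) + 1 else 0) := by
        intro w hw
        rw [hval v hv w hw]
        split_ifs
        · linear_combination hδ2
        · ring
      rw [Finset.sum_congr rfl h4, Finset.sum_add_distrib, Finset.sum_ite_eq A v, if_pos hv]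
      ring
    rw [h2, h3] at h1
    linarith
  set d : ℤ := v₀ (Y v₀) + δ with hd
  have hdv : ∀ v ∈ A, v (Y v) + δ = d := by
    intro v hv
    have h1 := hnorm v hv
    have h2 := hnorm v₀ hv₀
    have h3 : 2 * δ * (v (Y v) + δ) = 2 * δ * (v₀ (Y v₀) + δ) := by linarith
    exact mul_left_cancel₀ (mul_ne_zero two_ne_zero hδ0) h3
  have hval' : ∀ v ∈ A, ∀ w ∈ A, v (Y w) = d - δ * (if v = w then 1 else 0) := by
    intro v hv w hw
    rw [hval v hv w hw, hdv w hw]
  have hmain : (d - δ) ^ 2 + ((A.card : ℤ) - 1) * d ^ 2 + K = (m : ℤ) + 1 := by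
    have h1 := hnorm v₀ hv₀
    rw [Finset.sum_congr rfl (fun w hw => by rw [hdv w hw]), Finset.sum_const, nsmul_eq_mul,
      ← hd] at h1
    have h2 : δ ^ 2 = 1 := by rw [sq]; exact hδ2
    linear_combination h2 - h1
  obtain ⟨l₀, hl₀, hl₀v⟩ := (hAmem v₀).mp hv₀
  have hXmem : ∀ x, x ∈ principalBlock M G \ (S : Set (IrrCharacter G)) ↔
      x ∈ principalBlock M G ∧ x ∉ S := by
    intro x; simp
  have hBmem : ∀ x, x ∈ B ↔ x ∈ principalBlock M G := by
    intro x; rw [hBdef, Set.Finite.mem_toFinset]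
  have hsum1 : ∀ y : ↥(P : Subgroup G), y ≠ 1 → ∑ l ∈ L, toFun l y = -1 := by
    intro y hy
    have h1 : ∑ l : (↥(P : Subgroup G) →* ℂˣ), toFun l y = 0 :=
      sum_toFun_apply (P := ↥(P : Subgroup G)) hab y hy
    rw [← Finset.add_sum_erase _ _ (Finset.mem_univ (1 : ↥(P : Subgroup G) →* ℂˣ)), ← hL] at h1
    have h2 : toFun (1 : ↥(P : Subgroup G) →* ℂˣ) y = 1 := by simp [toFun]
    rw [h2] at h1
    linear_combination h1
  have hexp : ∀ χ ∈ principalBlock M G, ∀ y : ↥(P : Subgroup G), y ≠ 1 →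
      (χ : G → ℂ) y = - ∑ l ∈ L, (a l χ : ℂ) * toFun l y := by
    intro χ hχ y hy
    rw [apply_eq_neg_sum (P : Subgroup G) hab (χ : G → ℂ) y hy,
      ← Finset.add_sum_erase _ _ (Finset.mem_univ (1 : ↥(P : Subgroup G) →* ℂˣ)), ← hL, coef_one,
      zero_mul, zero_add]
    congr 1
    exact Finset.sum_congr rfl fun l _ => by rw [ha l χ ((hBmem χ).mpr hχ)]
  have hvA : ∀ l : ↥(P : Subgroup G) →* ℂˣ, l ≠ 1 → a l ∈ A := fun l hl => (hAmem _).mpr ⟨l, hl, rfl⟩
  have hXval : ∀ χ, χ ∈ principalBlock M G → χ ∉ S → ∀ y : ↥(P : Subgroup G), y ≠ 1 →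
      (χ : G → ℂ) y = (v₀ χ : ℂ) := by
    intro χ hχ hχS y hy
    rw [hexp χ hχ y hy]
    have h1 : ∀ l ∈ L, (a l χ : ℂ) * toFun l y = (v₀ χ : ℂ) * toFun l y := by
      intro l hl
      rw [hconst χ hχS (a l) (hvA l ((hLmem l).mp hl)) v₀ hv₀]
    rw [Finset.sum_congr rfl h1, ← Finset.mul_sum, hsum1 y hy]
    ring
  have ho1 : ∀ v ∈ A, v o = 1 := by
    intro v hv
    obtain ⟨l, hl, rfl⟩ := (hAmem v).mp hv
    have h2 : (a l o : ℂ) = 1 := by
      rw [ha l o ((hBmem o).mpr hoB)]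
      change classInner (toFun (1 : ↥(P : Subgroup G) →* ℂˣ)) (1 - toFun l) = 1
      rw [← toFun_one, classInner_sub_right, classInner_toFun, classInner_toFun, if_pos rfl,
        if_neg (fun h => hl h.symm), sub_zero]
    exact_mod_cast h2
  have hoS : o ∉ S := by
    intro h
    obtain ⟨v, hv, hvo⟩ := (hSmem o).mp h
    obtain ⟨w, hw, hne⟩ := Finset.exists_mem_ne (by omega : 1 < A.card) v
    have h1 := hY v hv w hw (Y v)
    rw [if_pos rfl, if_neg (fun h => hne ((hYY v hv w hw).mp h).symm), hvo, ho1 v hv, ho1 w hw] at h1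
    apply hδ0
    linarith
  have hXne : ∀ χ, χ ∈ principalBlock M G → χ ∉ S → v₀ χ ≠ 0 := by
    intro χ hχ hχS h0
    obtain ⟨y, hy, hy1, hy2⟩ := exists_apply_ne_zero M hM P hχ (hYB v₀ hv₀)
      (fun h => hχS ((hSmem χ).mpr ⟨v₀, hv₀, h⟩))
    apply hy2
    have h1 := hXval χ hχ hχS ⟨y, hy⟩ (fun h => hy1 (congrArg Subtype.val h))
    rw [h0, Int.cast_zero] at h1
    exact h1
  have hK0 : ((principalBlock M G \ (S : Set (IrrCharacter G))).ncard : ℤ) ≤ K := by
    rw [hK, finsum_mem_eq_finite_toFinset_sum _ (Set.toFinite _),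
      Set.ncard_eq_toFinset_card _ (Set.toFinite _), Finset.card_eq_sum_ones]
    push_cast
    refine Finset.sum_le_sum fun x hx => ?_
    rw [Set.Finite.mem_toFinset, hXmem] at hx
    have h1 : 0 < v₀ x ^ 2 := by
      have := hXne x hx.1 hx.2
      positivity
    omega
  have hregS : ∀ η ∈ S, ∀ η' ∈ S, ∀ g : G, ¬ p ∣ orderOf g → (η : G → ℂ) g = (η' : G → ℂ) g := by
    intro η hη η' hη' g hg
    obtain ⟨v, hv, rfl⟩ := (hSmem η).mp hη
    obtain ⟨w, hw, rfl⟩ := (hSmem η').mp hη'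
    obtain ⟨l, hl, hlv⟩ := (hAmem v).mp hv
    obtain ⟨l', hl', hlw⟩ := (hAmem w).mp hw
    have h1 := hreg l g hg
    have h2 := hreg l' g hg
    rw [hlv] at h1
    rw [hlw] at h2
    have h3 : ∑ χ : IrrCharacter G, ((v χ : ℂ) - (w χ : ℂ)) * (χ : G → ℂ) g = 0 := by
      simp only [sub_mul]
      rw [Finset.sum_sub_distrib, h1, h2, sub_zero]
    have h4 : ∀ χ : IrrCharacter G, ((v χ : ℂ) - (w χ : ℂ)) * (χ : G → ℂ) g =
        -(δ : ℂ) * ((if χ = Y v then (χ : G → ℂ) g else 0) - (if χ = Y w then (χ : G → ℂ) g else 0)) := by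
      intro χ
      have h5 : ((v χ : ℂ) - (w χ : ℂ)) = ((v χ - w χ : ℤ) : ℂ) := by push_cast; rfl
      rw [h5, hY v hv w hw χ]
      split_ifs <;> push_cast <;> ring
    rw [Finset.sum_congr rfl (fun χ _ => h4 χ), ← Finset.mul_sum, Finset.sum_sub_distrib,
      Finset.sum_ite_eq', Finset.sum_ite_eq'] at h3
    simp only [Finset.mem_univ, if_true] at h3
    have h6 : (-(δ : ℂ)) ≠ 0 := by
      rw [neg_ne_zero]
      exact_mod_cast hδ0
    exact sub_eq_zero.mp ((mul_eq_zero.mp h3).resolve_left h6)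
  refine ⟨_, principalBlock M G \ (S : Set (IrrCharacter G)), (S : Set (IrrCharacter G)), ?_, ?_, ?_,
    rfl, ?_, ⟨o, (hXmem o).mpr ⟨hoB, hoS⟩, rfl⟩, v₀, d, δ, fun l => Y (a l), hδ, ?_, ?_, ?_, ?_, ?_,
    ?_, ?_, ?_⟩
  · rw [Nat.card_coe_set_eq]
    have h1 : 1 ≤ (d - δ) ^ 2 + ((A.card : ℤ) - 1) * d ^ 2 := by
      by_cases hd0 : d = 0
      · rw [hd0]
        have : δ ^ 2 = 1 := by rw [sq]; exact hδ2
        nlinarith
      · have h2 : 0 < d ^ 2 := by positivity
        have h3 : 2 ≤ (A.card : ℤ) := by exact_mod_cast hA2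
        nlinarith [sq_nonneg (d - δ)]
    have h2 : ((principalBlock M G \ (S : Set (IrrCharacter G))).ncard : ℤ) ≤ m := by linarith
    exact_mod_cast h2
  · refine (Set.sdiff_union_of_subset ?_).symm
    intro x hx
    obtain ⟨v, hv, rfl⟩ := (hSmem x).mp (by simpa using hx)
    exact hYB v hv
  · exact Set.disjoint_sdiff_left
  · rw [Nat.card_coe_set_eq, Set.ncard_coe_finset, hS, Finset.card_image_of_injOn hYinj, hAcard]
  · intro χ hχ
    rw [hXmem] at hχ
    refine ⟨hXne χ hχ.1 hχ.2, fun z y hz hy hy1 => ?_⟩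
    rw [apply_eq_of_isPPart M hM P hab hsr hχ.1 hz hy hy1]
    exact hXval χ hχ.1 hχ.2 ⟨y, hy⟩ (fun h => hy1 (congrArg Subtype.val h))
  · intro ψ hψ
    exact Finset.mem_coe.mpr ((hSmem _).mpr ⟨a ψ, hvA ψ hψ, rfl⟩)
  · intro η hη
    obtain ⟨v, hv, rfl⟩ := (hSmem η).mp (Finset.mem_coe.mp hη)
    obtain ⟨l, hl, rfl⟩ := (hAmem v).mp hv
    exact ⟨l, hl, rfl⟩
  · intro ψ ψ' hψ hψ'
    rw [← heq_iff ψ ψ' hψ hψ']
    exact ((hYY _ (hvA ψ hψ) _ (hvA ψ' hψ')).symm)
  · intro ψ hψ z y hz hy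
    have hy1 : (y : G) ≠ 1 := fun h => hy (Subtype.ext h)
    have hYψ := hYB _ (hvA ψ hψ)
    change (Y (a ψ) : G → ℂ) z = _
    rw [apply_eq_of_isPPart M hM P hab hsr hYψ hz y.2 hy1, hexp _ hYψ y hy]
    have h1 : ∀ l ∈ L, (a l (Y (a ψ)) : ℂ) * toFun l y =
        (d : ℂ) * toFun l y - (δ : ℂ) * (if a l = a ψ then toFun l y else 0) := by
      intro l hl
      rw [hval' (a l) (hvA l ((hLmem l).mp hl)) (a ψ) (hvA ψ hψ)]
      split_ifs <;> push_cast <;> ring
    rw [Finset.sum_congr rfl h1, Finset.sum_sub_distrib, ← Finset.mul_sum, ← Finset.mul_sum,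
      hsum1 y hy, ← Finset.sum_filter]
    have h2 : ∑ᶠ ψ' ∈ {ψ' : ↥(P : Subgroup G) →* ℂˣ | ∃ s ∈ (P : Subgroup G).normalizerMonoidHom.range,
        ψ'.comp s.toMonoidHom = ψ}, ((ψ' y : ℂˣ) : ℂ) = ∑ l ∈ L with a l = a ψ, toFun l y := by
      rw [finsum_mem_eq_finite_toFinset_sum _ (Set.toFinite _)]
      refine Finset.sum_congr ?_ fun l _ => rfl
      ext l
      rw [Set.Finite.mem_toFinset, Finset.mem_filter, hLmem, Set.mem_ofPred_eq, ← hE]
      constructor
      · intro h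
        have hl : l ≠ 1 := by
          rintro rfl
          obtain ⟨s, -, hs⟩ := h
          apply hψ
          rw [← hs]
          ext
          simp
        exact ⟨hl, ((heq_iff ψ l hψ hl).mpr h).symm⟩
      · rintro ⟨hl, h⟩
        exact (heq_iff ψ l hψ hl).mp h.symm
    rw [h2]
    ring
  · rw [← hAcard, ← hmain]
  · intro η hη η' hη'
    exact hregS η (Finset.mem_coe.mp hη) η' (Finset.mem_coe.mp hη')
  · intro η hη g hg
    have h1 := hreg l₀ g hg
    rw [hl₀v, hsplit (fun χ => (v₀ χ : ℂ) * (χ : G → ℂ) g) (fun x hx => by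
      rw [hAB v₀ hv₀ x hx]; simp)] at h1
    have h2 : ∑ w ∈ A, (v₀ (Y w) : ℂ) * (Y w : G → ℂ) g =
        ((A.card : ℂ) * d - δ) * (η : G → ℂ) g := by
      have h3 : ∀ w ∈ A, (v₀ (Y w) : ℂ) * (Y w : G → ℂ) g =
          (d : ℂ) * (η : G → ℂ) g - (if v₀ = w then (δ : ℂ) * (η : G → ℂ) g else 0) := by
        intro w hw
        rw [hregS (Y w) ((hSmem _).mpr ⟨w, hw, rfl⟩) η (Finset.mem_coe.mp hη) g hg,
          hval' v₀ hv₀ w hw]
        split_ifs <;> push_cast <;> ring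
      rw [Finset.sum_congr rfl h3, Finset.sum_sub_distrib, Finset.sum_const, nsmul_eq_mul,
        Finset.sum_ite_eq A v₀, if_pos hv₀]
      ring
    rw [h2, hAcard] at h1
    rw [← h1]
    ring

end Cfsg.Agent.H656.FrobBlock
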