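import Mathlib
import Cfsg.Prelude.Def_Blocks
import Cfsg.Agent.Characters.Core
import Cfsg.Agent.Blocks.Local
import Cfsg.Agent.Blocks.Basic
import Cfsg.Agent.Blocks.PPart
import Cfsg.Agent.Blocks.RegularCount
import Cfsg.Agent.Blocks.PrincipalConst
import Cfsg.Agent.S0907
import Cfsg.Agent.S0913
import Cfsg.Agent.S0940

/-!
# Characters of the principal block over those of a subgroup

`H` is a subgroup of the finite group `G` normalized by a Sylow `p`-subgroup of `G` (for instance a
normal subgroup, or a subgroup containing a Sylow `p`-subgroup). Every irreducible character of the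
principal `p`-block of `H` is a constituent of the restriction of an irreducible character of the
principal `p`-block of `G` (`exists_over`).
-/

set_option autoImplicit false
set_option linter.style.haveILetI false

open scoped ComplexConjugate
open Cfsg Cfsg.Agent.Characters.Core

namespace Cfsg.Agent.H656.OverPrincipal

universe u

variable {G : Type u} [Group G] [Finite G] {p : ℕ} [Fact p.Prime]

/-- The set of pairs `(x, y)` with `x` a `p`-element, `y` a `p`-regular element and `x y` a
`p`-regular element of `H`. -/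
abbrev PairSet (p : ℕ) (H : Subgroup G) : Type u :=
  {xy : G × G // (∃ k : ℕ, orderOf xy.1 = p ^ k) ∧ ¬ p ∣ orderOf xy.2 ∧ xy.1 * xy.2 ∈ H ∧
    ¬ p ∣ orderOf (xy.1 * xy.2)}

omit [Finite G] [Fact p.Prime] in
theorem orderOf_conj (g x : G) : orderOf (g * x * g⁻¹) = orderOf x :=
  (MulAut.conj g).orderOf_eq x

/-- The number of these pairs is prime to `p` when a Sylow `p`-subgroup normalizes `H`. -/
theorem not_dvd_card_pairSet (H : Subgroup G) (P : Sylow p G)
    (hP : (P : Subgroup G) ≤ Subgroup.normalizer (H : Set G)) : ¬ p ∣ Nat.card (PairSet p H) := by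
  have hfin : Finite (PairSet p H) := inferInstance
  letI act : MulAction P (PairSet p H) :=
    { smul := fun g xy => ⟨((g : G) * xy.1.1 * (g : G)⁻¹, (g : G) * xy.1.2 * (g : G)⁻¹), by
        obtain ⟨⟨x, y⟩, hx, hy, hH, hr⟩ := xy
        have h1 : (g : G) * x * (g : G)⁻¹ * ((g : G) * y * (g : G)⁻¹) =
            (g : G) * (x * y) * (g : G)⁻¹ := by group
        refine ⟨?_, ?_, ?_, ?_⟩
        · rw [orderOf_conj]; exact hx
        · rw [orderOf_conj]; exact hy
        · rw [h1]
          exact (Subgroup.mem_normalizer_iff.mp (hP g.2) _).mp hH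
        · rw [h1, orderOf_conj]; exact hr⟩
      one_smul := by
        rintro ⟨⟨x, y⟩, h⟩
        apply Subtype.ext
        change (((1 : P) : G) * x * ((1 : P) : G)⁻¹, ((1 : P) : G) * y * ((1 : P) : G)⁻¹) = (x, y)
        simp
      mul_smul := by
        rintro g h ⟨⟨x, y⟩, hxy⟩
        apply Subtype.ext
        change (((g * h : P) : G) * x * ((g * h : P) : G)⁻¹,
          ((g * h : P) : G) * y * ((g * h : P) : G)⁻¹) =
          ((g : G) * ((h : G) * x * (h : G)⁻¹) * (g : G)⁻¹,
            (g : G) * ((h : G) * y * (h : G)⁻¹) * (g : G)⁻¹)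
        simp only [Subgroup.coe_mul, mul_inv_rev, mul_assoc] }
  have hsmul : ∀ (g : P) (xy : PairSet p H), (g • xy).1 =
      ((g : G) * xy.1.1 * (g : G)⁻¹, (g : G) * xy.1.2 * (g : G)⁻¹) := fun _ _ => rfl
  have h1 := P.isPGroup'.card_modEq_card_fixedPoints (PairSet p H)
  have h2 : Nat.card (MulAction.fixedPoints P (PairSet p H)) =
      Nat.card {y : ↥(Subgroup.centralizer ((P : Subgroup G) : Set G) ⊓ H) // ¬ p ∣ orderOf y} := by
    have hfix : ∀ xy : PairSet p H, xy ∈ MulAction.fixedPoints P (PairSet p H) ↔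
        xy.1.1 = 1 ∧ xy.1.2 ∈ Subgroup.centralizer ((P : Subgroup G) : Set G) := by
      intro xy
      rw [MulAction.mem_fixedPoints]
      constructor
      · intro h
        have hx : xy.1.1 ∈ Subgroup.centralizer ((P : Subgroup G) : Set G) := by
          rw [Subgroup.mem_centralizer_iff]
          intro g hg
          have h3 := congrArg (fun z : PairSet p H => z.1.1) (h ⟨g, hg⟩)
          simp only [hsmul] at h3
          rw [mul_inv_eq_iff_eq_mul] at h3
          exact h3
        have hy : xy.1.2 ∈ Subgroup.centralizer ((P : Subgroup G) : Set G) := by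
          rw [Subgroup.mem_centralizer_iff]
          intro g hg
          have h3 := congrArg (fun z : PairSet p H => z.1.2) (h ⟨g, hg⟩)
          simp only [hsmul] at h3
          rw [mul_inv_eq_iff_eq_mul] at h3
          exact h3
        refine ⟨?_, hy⟩
        have hxP := Cfsg.Agent.Blocks.RegularCount.mem_sylow_of_mem_centralizer P hx xy.2.1
        have hcomm : Commute xy.1.1 xy.1.2 := by
          rw [Subgroup.mem_centralizer_iff] at hy
          exact hy _ hxP
        have h4 : IsPPart p (xy.1.1 * xy.1.2) xy.1.1 :=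
          ⟨xy.1.2, rfl, hcomm, xy.2.1, xy.2.2.1⟩
        have h5 : IsPPart p (xy.1.1 * xy.1.2) 1 := by
          refine ⟨xy.1.1 * xy.1.2, one_mul _, Commute.one_left _, ⟨0, by simp⟩, xy.2.2.2.2⟩
        exact Cfsg.Agent.Blocks.PPart.isPPart_unique h4 h5
      · rintro ⟨hx, hy⟩ g
        apply Subtype.ext
        rw [hsmul]
        rw [Subgroup.mem_centralizer_iff] at hy
        have h3 := hy g g.2
        refine Prod.ext ?_ ?_
        · change (g : G) * xy.1.1 * (g : G)⁻¹ = xy.1.1
          rw [hx]; simp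
        · change (g : G) * xy.1.2 * (g : G)⁻¹ = xy.1.2
          rw [h3, mul_assoc, mul_inv_cancel, mul_one]
    refine Nat.card_congr ⟨fun xy => ⟨⟨xy.1.1.2, Subgroup.mem_inf.mpr ⟨?_, ?_⟩⟩, ?_⟩, fun y => ⟨⟨(1, (y.1 : G)), ?_⟩, ?_⟩, ?_, ?_⟩
    · exact ((hfix xy.1).mp xy.2).2
    · have h3 := xy.1.2.2.2.1
      rw [((hfix xy.1).mp xy.2).1, one_mul] at h3
      exact h3
    · rw [Subgroup.orderOf_mk]
      exact xy.1.2.2.1
    · have h3 : ¬ p ∣ orderOf (y.1 : G) := by
        rw [Subgroup.orderOf_coe]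
        exact y.2
      refine ⟨⟨0, by simp⟩, h3, ?_, ?_⟩
      · simpa using (Subgroup.mem_inf.mp y.1.2).2
      · simpa using h3
    · exact (hfix _).mpr ⟨rfl, (Subgroup.mem_inf.mp y.1.2).1⟩
    · rintro ⟨xy, hxy⟩
      apply Subtype.ext
      apply Subtype.ext
      refine Prod.ext ?_ rfl
      exact ((hfix xy).mp hxy).1.symm
    · rintro ⟨y, hy⟩
      rfl
  rw [h2] at h1
  intro hdvd
  exact Cfsg.Agent.Blocks.RegularCount.not_dvd_card_regular
    (G := ↥(Subgroup.centralizer ((P : Subgroup G) : Set G) ⊓ H)) (p := p)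
    ((Nat.modEq_zero_iff_dvd).mp (h1.symm.trans ((Nat.modEq_zero_iff_dvd).mpr hdvd)))

open scoped Classical in
/-- The number of these pairs, sorted by the product. -/
theorem card_pairSet (p : ℕ) (H : Subgroup G) [Fintype H] : Nat.card (PairSet p H) =
    ∑ h : H, if p ∣ orderOf (h : G) then 0 else
      Nat.card {xy : G × G // (∃ k : ℕ, orderOf xy.1 = p ^ k) ∧ ¬ p ∣ orderOf xy.2 ∧
        xy.1 * xy.2 = (h : G)} := by
  have e : PairSet p H ≃ (Σ h : H, {xy : G × G // (∃ k : ℕ, orderOf xy.1 = p ^ k) ∧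
      ¬ p ∣ orderOf xy.2 ∧ xy.1 * xy.2 = (h : G) ∧ ¬ p ∣ orderOf (h : G)}) :=
    { toFun := fun xy => ⟨⟨xy.1.1 * xy.1.2, xy.2.2.2.1⟩, xy.1, xy.2.1, xy.2.2.1, rfl, xy.2.2.2.2⟩
      invFun := fun z => ⟨z.2.1, z.2.2.1, z.2.2.2.1, by rw [z.2.2.2.2.1]; exact z.1.2, by
        rw [z.2.2.2.2.1]; exact z.2.2.2.2.2⟩
      left_inv := fun xy => rfl
      right_inv := by
        rintro ⟨⟨h, hh⟩, ⟨xy, h1, h2, h3, h4⟩⟩
        simp only at h3
        subst h3
        rfl }
  rw [Nat.card_congr e, Nat.card_sigma]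
  refine Finset.sum_congr rfl fun h _ => ?_
  split_ifs with hh
  · rw [Nat.card_eq_zero]
    left
    exact ⟨fun z => z.2.2.2.2 hh⟩
  · refine Nat.card_congr (Equiv.subtypeEquivRight fun xy => ?_)
    tauto

variable {M : Ideal AlgInt}

/-- The sum over `H` of the coefficients of the idempotent of the principal block of `G` is a unit
modulo the local ideal, when a Sylow `p`-subgroup normalizes `H`. -/
theorem not_mem_sum_blockCoeff (hM : IsPModular p M) (H : Subgroup G) [Fintype H] (P : Sylow p G)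
    (hP : (P : Subgroup G) ≤ Subgroup.normalizer (H : Set G)) :
    ¬ MemLocalIdeal M (∑ h : H, blockCoeff (principalBlock M G) (h : G)) := by
  classical
  have hMp : M.IsPrime := hM.2.1.isPrime
  intro hmem
  have hB : IsPBlock M (principalBlock M G) :=
    ⟨⟨fun _ => 1, Cfsg.Agent.Blocks.Basic.isIrrCharacter_one⟩, rfl⟩
  set R : ℕ := Nat.card {y : G // ¬ p ∣ orderOf y} with hR
  have hR0 : (R : ℂ) ≠ 0 := by
    have : Nonempty {y : G // ¬ p ∣ orderOf y} :=
      ⟨⟨1, by rw [orderOf_one]; exact (Fact.out : p.Prime).not_dvd_one⟩⟩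
    exact_mod_cast (Nat.card_pos (α := {y : G // ¬ p ∣ orderOf y})).ne'
  let N : H → ℕ := fun h => if p ∣ orderOf (h : G) then 0 else
      Nat.card {xy : G × G // (∃ k : ℕ, orderOf xy.1 = p ^ k) ∧ ¬ p ∣ orderOf xy.2 ∧
        xy.1 * xy.2 = (h : G)}
  have h1 : ∀ h : H, MemLocalIdeal M (blockCoeff (principalBlock M G) (h : G) - (N h : ℂ) / (R : ℂ)) := by
    intro h
    by_cases hh : p ∣ orderOf (h : G)
    · have h2 : blockCoeff (principalBlock M G) (h : G) = 0 := by
        rw [Cfsg.Agent.Blocks.Basic.blockCoeff_def,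
          Cfsg.Agent.S0907.result p M hM _ hB 1 (h : G)
          (by rw [orderOf_one]; exact (Fact.out : p.Prime).not_dvd_one) hh, mul_zero]
      simp only [N, hh, if_true, h2]
      simpa using Cfsg.Agent.Blocks.Local.memLocalIdeal_zero
    · simp only [N, hh, if_false]
      exact Cfsg.Agent.S0940.result p M hM (h : G) hh
  have h2 : MemLocalIdeal M (∑ h : H, blockCoeff (principalBlock M G) (h : G) -
      ∑ h : H, (N h : ℂ) / (R : ℂ)) := by
    rw [← Finset.sum_sub_distrib]
    exact Cfsg.Agent.Blocks.Local.memLocalIdeal_sum fun h _ => h1 h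
  have h3 : MemLocalIdeal M (∑ h : H, (N h : ℂ) / (R : ℂ)) :=
    (Cfsg.Agent.Blocks.Local.memLocalIdeal_iff_of_sub h2).mp hmem
  have h4 : MemLocalIdeal M ((R : ℂ) * ∑ h : H, (N h : ℂ) / (R : ℂ)) :=
    Cfsg.Agent.Blocks.Local.memLocalIdeal_mul_left
      (Cfsg.Agent.Blocks.Local.memLocalRing_natCast R) h3
  have h5 : (R : ℂ) * ∑ h : H, (N h : ℂ) / (R : ℂ) = ((Nat.card (PairSet p H) : ℕ) : ℂ) := by
    rw [← Finset.sum_div, mul_div_cancel₀ _ hR0, card_pairSet]
    push_cast
    exact Finset.sum_congr rfl fun h _ => by simp only [N]; split_ifs <;> simp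
  rw [h5, Cfsg.Agent.Blocks.Local.memLocalIdeal_natCast_iff hM] at h4
  exact not_dvd_card_pairSet H P hP h4

/-- **Characters of the principal block of `G` over those of the principal block of `H`**, when a Sylow
`p`-subgroup of `G` normalizes `H`. -/
theorem exists_over (hM : IsPModular p M) (H : Subgroup G) [Fintype H] (P : Sylow p G)
    (hP : (P : Subgroup G) ≤ Subgroup.normalizer (H : Set G)) (θ : IrrCharacter H)
    (hθ : θ ∈ principalBlock M H) :
    ∃ χ ∈ principalBlock M G, classInner (fun h : H => (χ : G → ℂ) h) (θ : H → ℂ) ≠ 0 := by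
  have hMp : M.IsPrime := hM.2.1.isPrime
  by_contra hcon
  push Not at hcon
  apply not_mem_sum_blockCoeff hM H P hP
  have hfinG : Finite (IrrCharacter G) := finite_irr
  have hfin : (principalBlock M G).Finite := Set.toFinite _
  have hB : IsPBlock M (principalBlock M G) :=
    ⟨⟨fun _ => 1, Cfsg.Agent.Blocks.Basic.isIrrCharacter_one⟩, rfl⟩
  have h0 : ∑ h : H, blockCoeff (principalBlock M G) (h : G) * (θ : H → ℂ) h = 0 := by
    have h1 : ∀ h : H, blockCoeff (principalBlock M G) (h : G) * (θ : H → ℂ) h =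
        ∑ χ ∈ hfin.toFinset, (Nat.card G : ℂ)⁻¹ * (χ : G → ℂ) 1 *
          ((θ : H → ℂ) h * conj ((χ : G → ℂ) h)) := by
      intro h
      rw [Cfsg.Agent.Blocks.Basic.blockCoeff_def, finsum_mem_eq_finite_toFinset_sum _ hfin,
        Finset.mul_sum, Finset.sum_mul]
      exact Finset.sum_congr rfl fun χ _ => by ring
    rw [Finset.sum_congr rfl (fun h _ => h1 h), Finset.sum_comm]
    refine Finset.sum_eq_zero fun χ hχ => ?_
    rw [← Finset.mul_sum]
    have h2 : ∑ h : H, (θ : H → ℂ) h * conj ((χ : G → ℂ) h) = 0 := by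
      have h3 := hcon χ (by rwa [Set.Finite.mem_toFinset] at hχ)
      have h4 := classInner_conj_symm (θ : H → ℂ) (fun h : H => (χ : G → ℂ) h)
      rw [h3] at h4
      have h6 : classInner (θ : H → ℂ) (fun h : H => (χ : G → ℂ) h) = 0 := by
        simpa using h4
      rw [classInner_def] at h6
      have h5 : (Nat.card H : ℂ)⁻¹ ≠ 0 := inv_ne_zero card_ne_zero_complex
      exact (mul_eq_zero.mp h6).resolve_left h5
    rw [h2, mul_zero]
  have hθ1 : (θ : H → ℂ) 1 ≠ 0 := isIrr_apply_one_ne_zero θ.2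
  have h1 : MemLocalIdeal M (∑ h : H, blockCoeff (principalBlock M G) (h : G) *
      (1 - (θ : H → ℂ) h / (θ : H → ℂ) 1)) := by
    refine Cfsg.Agent.Blocks.PrincipalConst.memLocalIdeal_sum_classFunction ?_ ?_
    · intro g h
      have h2 : blockCoeff (principalBlock M G) ((h * g * h⁻¹ : H) : G) =
          blockCoeff (principalBlock M G) (g : G) := by
        apply Cfsg.Agent.Blocks.Basic.blockCoeff_isConj
        rw [isConj_comm, isConj_iff]
        exact ⟨h, rfl⟩
      beta_reduce
      rw [h2, isIrr_isClassFunction θ.2 g h]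
    · intro g
      have h2 := hθ g
      rw [Cfsg.Agent.Blocks.Basic.centralChar_def, Cfsg.Agent.Blocks.Basic.centralChar_def] at h2
      have h3 := Cfsg.Agent.Blocks.Local.memLocalIdeal_mul_left
        (Cfsg.Agent.S0913.result p M hM _ hB (g : G)) h2
      refine (congrArg (MemLocalIdeal M) ?_).mp h3
      field_simp
  have h2 : ∑ h : H, blockCoeff (principalBlock M G) (h : G) *
      (1 - (θ : H → ℂ) h / (θ : H → ℂ) 1) = ∑ h : H, blockCoeff (principalBlock M G) (h : G) := by
    have h3 : ∀ h : H, blockCoeff (principalBlock M G) (h : G) *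
        (1 - (θ : H → ℂ) h / (θ : H → ℂ) 1) = blockCoeff (principalBlock M G) (h : G) -
        ((θ : H → ℂ) 1)⁻¹ * (blockCoeff (principalBlock M G) (h : G) * (θ : H → ℂ) h) := by
      intro h
      field_simp
    rw [Finset.sum_congr rfl (fun h _ => h3 h), Finset.sum_sub_distrib, ← Finset.mul_sum, h0, mul_zero,
      sub_zero]
  rwa [h2] at h1

end Cfsg.Agent.H656.OverPrincipal
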