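import Cfsg.Agent.H203.LSHeis
import Cfsg.Agent.H934.HeisTwE6
import Cfsg.Agent.Mrg.Omega.Lie.HeisF
import Cfsg.Agent.S1070

/-!
# Lower bounds for the degrees of the projective representations of `²E₆(q)`

`ls` : `LS r (q ^ 6) (twistedE6 K q)`, all prime powers `q`, arbitrary centres (Heisenberg argument with three pairs of
root groups over the field of order `q²`).
-/

set_option autoImplicit false

universe u v w

namespace Cfsg.Agent.H656.LSTwE6

open Cfsg.Lie Cfsg.Agent.ChevalleyStructure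
open Cfsg.Agent.ChevalleyStructure.TwE6Basic Cfsg.Agent.ChevalleyStructure.TwE6BN
open Cfsg.Agent.H934.HeisTwE6 (go mem_of_go)
open Cfsg.Agent.Omega.TwoF.ChevHeis (br cm xK xK_br xK_commute)
open Cfsg.Agent.H203.LS

/-! ### Group theory -/

theorem comm_fold {G : Type*} [Group G] (σ : G →* G) {g h k : G} (e : g * h * g⁻¹ * h⁻¹ = k)
    (c1 : g * σ h = σ h * g) (c2 : σ g * h = h * σ g) (c3 : σ k * g = g * σ k) (c4 : σ k * h = h * σ k) :
    (g * σ g) * (h * σ h) * (g * σ g)⁻¹ * (h * σ h)⁻¹ = k * σ k := by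
  have e1 : g * h = k * h * g := by rw [← e]; group
  have e2 : σ g * σ h = σ k * σ h * σ g := by rw [← map_mul, e1, map_mul, map_mul]
  have e3 : (g * σ g) * (h * σ h) = k * σ k * ((h * σ h) * (g * σ g)) := by
    calc (g * σ g) * (h * σ h) = g * (σ g * h) * σ h := by group
      _ = (g * h) * (σ g * σ h) := by rw [c2]; group
      _ = k * h * (g * σ k) * σ h * σ g := by rw [e1, e2]; group
      _ = k * (h * σ k) * (g * σ h) * σ g := by rw [← c3]; group
      _ = _ := by rw [← c4, c1]; group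
  rw [e3]
  group

theorem comm_three {G : Type*} [Group G] (σ : G →* G) {g h k : G} (hg : σ g = g) (e : g * h * g⁻¹ * h⁻¹ = k) :
    g * (h * σ h) * g⁻¹ * (h * σ h)⁻¹ = k * (h * σ k * h⁻¹) := by
  have e1 : g * h = k * h * g := by rw [← e]; group
  have e2 : g * σ h = σ k * σ h * g := by
    have h1 := congrArg σ e1
    rw [map_mul, map_mul, map_mul, hg] at h1
    exact h1
  calc g * (h * σ h) * g⁻¹ * (h * σ h)⁻¹ = (g * h) * σ h * g⁻¹ * (h * σ h)⁻¹ := by group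
    _ = k * h * (g * σ h) * g⁻¹ * (h * σ h)⁻¹ := by rw [e1]; group
    _ = _ := by rw [e2]; group

/-! ### Root elements -/

variable {K : Type u} [Field K]

theorem x_cm {r s : ℕ} (hr : r < 72) (hs : s < 72) (h : cm chevE6 r s = true) (t u : K) :
    x r t * x s u = x s u * x r t :=
  congrArg Subtype.val (xK_commute hE6 hr hs h t u)

/-- the commutator of two root elements is a root element commuting with both -/
def brc (β γ r : ℕ) (m : ℤ) : Bool := br chevE6 β γ r m && (Nat.blt r 72 && (cm chevE6 r β && cm chevE6 r γ))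

theorem x_brc {β γ r : ℕ} {m : ℤ} (hβ : β < 72) (hγ : γ < 72) (h : brc β γ r m = true) (t u : K) :
    x β t * x γ u * (x β t)⁻¹ * (x γ u)⁻¹ = x r (m * t * u) := by
  simp only [brc, Bool.and_eq_true, Nat.blt_eq] at h
  obtain ⟨h1, h2, h3, h4⟩ := h
  have e : x γ u * x β t = x β t * x γ u * x r (-(m * t * u)) := congrArg Subtype.val (xK_br hE6 h1 t u)
  have e2 : x r (-(m * t * u) : K) = (x r (m * t * u))⁻¹ := (x_inv r _).symm
  rw [e2] at e
  have e3 : x β t * x γ u = x γ u * x β t * x r (m * t * u) := by rw [e]; group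
  rw [e3, mul_assoc (x γ u) (x β t), ← x_cm h2 hβ h3]
  calc x γ u * (x r (m * t * u) * x β t) * (x β t)⁻¹ * (x γ u)⁻¹ = (x γ u * x r (m * t * u)) * (x γ u)⁻¹ := by group
    _ = _ := by rw [← x_cm h2 hγ h4]; group

theorem rho_facts : ∀ r : Fin 72, rho (rho r) = r ∧ epsE r * epsE (rho r) = 1 ∧ cm chevE6 r.val (rho r).val = true ∧
    (rho r = r → epsE r = 1) := by decide +kernel

theorem sg_x' (φ : K →+* K) (r : Fin 72) (t : K) : sg φ (x r.val t) = x (rho r).val ((epsE r : K) * φ t) :=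
  sg_x φ r t

/-- the words -/
def wd : Fin 72 → List (Fin 4) :=
  ![[0, 1, 2, 3, 1, 2, 0, 1], [1, 2, 3, 1, 2, 0, 1], [2, 3, 1, 2, 0, 1], [3, 2, 1, 2, 3, 0, 1, 2], [2, 1, 2, 3, 0, 1, 2],
    [3, 2, 1, 2, 0, 1, 2, 3], [3, 1, 2, 0, 1], [1, 2, 3, 0, 1, 2], [3, 2, 0, 1], [2, 3, 0, 1, 2], [3, 0, 1, 2], [3, 2, 1],
    [2, 3, 1, 2], [3, 1, 2], [3, 2], [3], [2, 1, 2, 0, 1, 2, 3], [1, 2, 0, 1, 2, 3], [1, 2, 0, 1], [2, 0, 1, 2, 3],
    [2, 0, 1], [0, 1, 2], [0, 1, 2, 3], [0, 1, 2], [0, 1], [0], [2, 1, 2, 3], [2, 1], [1, 2], [2], [1, 2, 3], [1, 2], [1],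
    [2, 3], [2], [3], [], [], [2], [], [1], [1, 2], [], [1], [2], [2, 1, 2], [], [0], [0, 1], [0, 1, 2], [0, 1], [2, 0],
    [2, 0, 1, 2], [1, 2, 0], [1, 2, 0, 1, 2], [2, 1, 2, 0, 1, 2], [], [3], [3, 1], [2, 3, 1], [3, 2], [3, 0, 1],
    [2, 3, 0, 1], [3, 2, 0], [1, 2, 3, 0, 1], [3, 1, 2, 0], [3, 2, 1, 2, 0, 1, 2], [2, 1, 2, 3, 0, 1],
    [3, 2, 1, 2, 3, 0, 1], [2, 3, 1, 2, 0], [1, 2, 3, 1, 2, 0], [0, 1, 2, 3, 1, 2, 0]]

theorem go_wd : ∀ r : Fin 72, go (wd r) r.val (rho r).val = true := by decide +kernel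

section

variable {φ : K →+* K} {q : ℕ} (hφ : ∀ t, φ t = t ^ q) (hqq : ∀ t : K, (t ^ q) ^ q = t)

include hφ hqq in
theorem phi_phi (t : K) : φ (φ t) = t := by rw [hφ, hφ, hqq]

include hφ hqq in
theorem sg_sg (r : Fin 72) (t : K) : sg φ (sg φ (x r.val t)) = x r.val t := by
  obtain ⟨h1, h2, -, -⟩ := rho_facts r
  rw [sg_x', sg_x', h1, map_mul, phi_phi hφ hqq, map_intCast, ← mul_assoc, ← Int.cast_mul, mul_comm (epsE (rho r)), h2,
    Int.cast_one, one_mul]

theorem sg_comm (r : Fin 72) (t u : K) : x r.val t * sg φ (x r.val u) = sg φ (x r.val u) * x r.val t := by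
  rw [sg_x']
  exact x_cm r.2 (rho r).2 (rho_facts r).2.2.1 _ _

include hφ hqq in
theorem yy_mem (r : Fin 72) (t : K) : x r.val t * sg φ (x r.val t) ∈ twistedE6 K q := by
  refine mem_of_go hφ hqq (wd r) _ _ (go_wd r) _ (mul_mem (x_mem_rs (by simp) t) ?_) ?_
  · rw [sg_x']
    exact x_mem_rs (by simp) _
  · rw [mem_fix, map_mul, sg_sg hφ hqq, sg_comm]

include hφ hqq in
theorem zz_mem (r : Fin 72) (hr : rho r = r) {s : K} (hs : φ s = s) : x r.val s ∈ twistedE6 K q := by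
  refine mem_of_go hφ hqq (wd r) _ _ (go_wd r) _ (x_mem_rs (by simp) s) ?_
  rw [mem_fix, sg_x', hr, (rho_facts r).2.2.2 hr, hs, Int.cast_one, one_mul]

/-- the root elements of the twisted group -/
def Y (r : Fin 72) (t : K) : ↥(twistedE6 K q) := ⟨x r.val t * sg φ (x r.val t), yy_mem hφ hqq r t⟩

/-- the long root elements of the twisted group -/
def Z (r : Fin 72) (hr : rho r = r) {s : K} (hs : φ s = s) : ↥(twistedE6 K q) := ⟨x r.val s, zz_mem hφ hqq r hr hs⟩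

theorem Y_add (r : Fin 72) (s t : K) : Y hφ hqq r (s + t) = Y hφ hqq r s * Y hφ hqq r t := by
  apply Subtype.ext
  change x r.val (s + t) * sg φ (x r.val (s + t)) = x r.val s * sg φ (x r.val s) * (x r.val t * sg φ (x r.val t))
  rw [← x_add, map_mul]
  calc x r.val s * x r.val t * (sg φ (x r.val s) * sg φ (x r.val t))
      = x r.val s * (x r.val t * sg φ (x r.val s)) * sg φ (x r.val t) := by group
    _ = _ := by rw [sg_comm]; group

/-- the folded root groups commute -/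
def CMb (r s : Fin 72) : Bool := cm chevE6 r.val s.val && (cm chevE6 r.val (rho s).val &&
  (cm chevE6 (rho r).val s.val && cm chevE6 (rho r).val (rho s).val))

theorem Y_comm {r s : Fin 72} (h : CMb r s = true) (t u : K) :
    Y hφ hqq r t * Y hφ hqq s u = Y hφ hqq s u * Y hφ hqq r t := by
  simp only [CMb, Bool.and_eq_true] at h
  obtain ⟨h1, h2, h3, h4⟩ := h
  apply Subtype.ext
  change x r.val t * sg φ (x r.val t) * (x s.val u * sg φ (x s.val u)) =
    x s.val u * sg φ (x s.val u) * (x r.val t * sg φ (x r.val t))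
  rw [sg_x', sg_x']
  have c1 : Commute (x r.val t) (x s.val u) := x_cm r.2 s.2 h1 t u
  have c2 : Commute (x r.val t) (x (rho s).val ((epsE s : K) * φ u)) := x_cm r.2 (rho s).2 h2 _ _
  have c3 : Commute (x (rho r).val ((epsE r : K) * φ t)) (x s.val u) := x_cm (rho r).2 s.2 h3 _ _
  have c4 : Commute (x (rho r).val ((epsE r : K) * φ t)) (x (rho s).val ((epsE s : K) * φ u)) :=
    x_cm (rho r).2 (rho s).2 h4 _ _
  exact ((c1.mul_right c2).mul_left (c3.mul_right c4)).eq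

theorem Z_comm {r s : Fin 72} (hr : rho r = r) {a : K} (ha : φ a = a)
    (h : (cm chevE6 r.val s.val && cm chevE6 r.val (rho s).val) = true) (u : K) :
    Z hφ hqq r hr ha * Y hφ hqq s u = Y hφ hqq s u * Z hφ hqq r hr ha := by
  rw [Bool.and_eq_true] at h
  obtain ⟨h1, h2⟩ := h
  apply Subtype.ext
  change x r.val a * (x s.val u * sg φ (x s.val u)) = x s.val u * sg φ (x s.val u) * x r.val a
  rw [sg_x']
  have c1 : Commute (x r.val a) (x s.val u) := x_cm r.2 s.2 h1 a u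
  have c2 : Commute (x r.val a) (x (rho s).val ((epsE s : K) * φ u)) := x_cm r.2 (rho s).2 h2 _ _
  exact (c1.mul_right c2).eq

/-- the folded commutator relation -/
def FB (a b c : Fin 72) (m : ℤ) : Bool := brc a.val b.val c.val m && (cm chevE6 a.val (rho b).val &&
  (cm chevE6 (rho a).val b.val && (cm chevE6 (rho c).val a.val && cm chevE6 (rho c).val b.val)))

theorem Y_br {a b c : Fin 72} {m : ℤ} (h : FB a b c m = true) (t u : K) :
    Y hφ hqq a t * Y hφ hqq b u * (Y hφ hqq a t)⁻¹ * (Y hφ hqq b u)⁻¹ = Y hφ hqq c (m * t * u) := by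
  simp only [FB, Bool.and_eq_true] at h
  obtain ⟨h1, h2, h3, h4, h5⟩ := h
  apply Subtype.ext
  refine comm_fold (sg φ) (g := x a.val t) (h := x b.val u) (k := x c.val (m * t * u)) (x_brc a.2 b.2 h1 t u) ?_ ?_ ?_ ?_
  · rw [sg_x']; exact x_cm a.2 (rho b).2 h2 _ _
  · rw [sg_x']; exact x_cm (rho a).2 b.2 h3 _ _
  · rw [sg_x']; exact x_cm (rho c).2 a.2 h4 _ _
  · rw [sg_x']; exact x_cm (rho c).2 b.2 h5 _ _

/-! ### Strong commutation -/

theorem sc1 {a b c : Fin 72} {m : ℤ} (h : FB a b c m = true) (hm : m * m = 1) {g : ↥(twistedE6 K q)}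
    (ha : ∀ t, Y hφ hqq a t * g = g * Y hφ hqq a t) (hb : ∀ t, Y hφ hqq b t * g = g * Y hφ hqq b t) (v : K) :
    SC.{u, v} (Y hφ hqq c v) g := by
  have e : (m : K) * (m * v) * 1 = v := by
    rw [mul_one, ← mul_assoc, ← Int.cast_mul, hm, Int.cast_one, one_mul]
  rw [← e, ← Y_br hφ hqq h]
  exact SC.of_commutator (ha _) (hb _)

theorem sc3 {a α c : Fin 72} {m m' : ℤ} (hα : rho α = α) (h71 : rho 71 = 71)
    (h1 : (brc α.val c.val a.val m && (brc c.val (rho a).val 71 m' && cm chevE6 71 (rho a).val)) = true)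
    (hm : m * m = 1) {g : ↥(twistedE6 K q)}
    (ha : Z hφ hqq α hα (map_one φ) * g = g * Z hφ hqq α hα (map_one φ))
    (hc : ∀ t, Y hφ hqq c t * g = g * Y hφ hqq c t)
    (hz : ∀ (s : K) (hs : φ s = s), SC.{u, v} (Z hφ hqq 71 h71 hs) g) (v : K) : SC.{u, v} (Y hφ hqq a v) g := by
  simp only [Bool.and_eq_true] at h1
  obtain ⟨h1, h2, h3⟩ := h1
  have hpp := phi_phi hφ hqq
  have hn : φ (m' * (m * v) * ((epsE a : K) * φ v)) = m' * (m * v) * ((epsE a : K) * φ v) := by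
    simp only [map_mul, map_intCast, hpp]; ring
  have key : Z hφ hqq α hα (map_one φ) * Y hφ hqq c (m * v) * (Z hφ hqq α hα (map_one φ))⁻¹ * (Y hφ hqq c (m * v))⁻¹ =
      Y hφ hqq a v * Z hφ hqq 71 h71 hn := by
    apply Subtype.ext
    have e1 := x_brc (K := K) α.2 c.2 h1 1 (m * v)
    have e0 : (m : K) * 1 * (m * v) = v := by
      rw [mul_one, ← mul_assoc, ← Int.cast_mul, hm, Int.cast_one, one_mul]
    rw [e0] at e1
    have e2 := comm_three (sg φ) (g := x α.val 1) (h := x c.val (m * v)) (k := x a.val v)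
      (by rw [sg_x', hα, (rho_facts α).2.2.2 hα, map_one, Int.cast_one, one_mul]) e1
    refine e2.trans ?_
    change _ = x a.val v * sg φ (x a.val v) * x 71 _
    have e3 := x_brc (K := K) c.2 (rho a).2 h2 (m * v) ((epsE a : K) * φ v)
    rw [← sg_x'] at e3
    have e4 : x c.val (m * v) * sg φ (x a.val v) * (x c.val (m * v))⁻¹ =
        x 71 (m' * (m * v) * ((epsE a : K) * φ v)) * sg φ (x a.val v) := by
      rw [← e3]; group
    have e5 : x 71 (m' * (m * v) * ((epsE a : K) * φ v)) * sg φ (x a.val v) =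
        sg φ (x a.val v) * x 71 (m' * (m * v) * ((epsE a : K) * φ v)) := by
      rw [sg_x']
      exact x_cm (by norm_num) (rho a).2 h3 _ _
    rw [e4, e5, ← mul_assoc]
  have k1 : Y hφ hqq a v * Z hφ hqq 71 h71 hn ∈ cenSC.{u, v} g := by
    rw [mem_cenSC, ← key]
    exact SC.of_commutator ha (hc _)
  exact (Subgroup.mul_mem_cancel_right _ (mem_cenSC.2 (hz _ hn))).1 k1

theorem Z_eq {v s : K} (h71 : rho 71 = 71) (hs : φ s = s) (h : v + φ v = s) :
    Z hφ hqq 71 h71 hs = Y hφ hqq 71 v := by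
  apply Subtype.ext
  change x 71 s = x 71 v * sg φ (x 71 v)
  have e : sg φ (x 71 v) = x 71 (φ v) := by
    have := sg_x' φ 71 v
    rw [h71, (rho_facts 71).2.2.2 h71, Int.cast_one, one_mul] at this
    exact this
  rw [e, x_add, h]

/-! ### The trace -/

omit [Field K] in
theorem exists_ne' [Field K] [Fintype K] {φ : K →+* K} {q : ℕ} (hφ : ∀ t, φ t = t ^ q) (hq : 1 < q)
    (hK : Fintype.card K = q ^ 2) : ∃ t : K, φ t ≠ t := by
  classical
  by_contra h
  push Not at h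
  have h1 : ∀ t : K, t ^ q - t = 0 := fun t => by rw [← hφ, h, sub_self]
  have h2 := FiniteField.X_pow_card_sub_X_ne_zero K hq
  have h3 : Fintype.card K ≤ (Polynomial.X ^ q - Polynomial.X : Polynomial K).roots.toFinset.card := by
    rw [← Finset.card_univ]
    refine Finset.card_le_card fun t _ => ?_
    rw [Multiset.mem_toFinset, Polynomial.mem_roots h2, Polynomial.IsRoot, Polynomial.eval_sub, Polynomial.eval_pow,
      Polynomial.eval_X]
    exact h1 t
  have h4 := (h3.trans (Multiset.toFinset_card_le _)).trans (Polynomial.card_roots' _)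
  rw [FiniteField.X_pow_card_sub_X_natDegree_eq K hq, hK, pow_two] at h4
  nlinarith

include hφ hqq in
theorem exists_trace {t : K} (ht : φ t ≠ t) {s : K} (hs : φ s = s) : ∃ v : K, v + φ v = s := by
  have hpp := phi_phi hφ hqq
  obtain ⟨w, hw⟩ : ∃ w : K, w + φ w ≠ 0 := by
    by_contra h
    push Not at h
    have h1 := h 1
    rw [map_one] at h1
    have h2 := h t
    apply ht
    linear_combination h2 - t * h1
  have hc : φ (w + φ w) = w + φ w := by rw [map_add, hpp, add_comm]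
  refine ⟨s / (w + φ w) * w, ?_⟩
  rw [map_mul, map_div₀, hc, hs]
  field_simp

/-! ### The Heisenberg system -/

/-- `A` -/
def rA : Fin 3 → Fin 72 := ![48, 49, 62]
/-- `B` -/
def rB : Fin 3 → Fin 72 := ![68, 67, 54]
/-- the signs -/
def eB : Fin 3 → ℤ := ![1, -1, 1]

theorem rho71 : rho 71 = 71 := by decide +kernel

theorem fb_AB : ∀ i : Fin 3, FB (rA i) (rB i) 71 (eB i) = true ∧ eB i * eB i = 1 := by decide +kernel

theorem fb71 : FB 48 68 71 1 = true ∧ FB 49 67 71 (-1) = true := by decide +kernel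

theorem cm71 : CMb 48 71 = true ∧ CMb 68 71 = true := by decide +kernel

/-- `[X, A] = 1` and `[X, B] = 1` strongly -/
theorem cmX : ∀ r : Fin 72, r ∈ [(49 : Fin 72), 62, 67, 54] → CMb 48 r = true ∧ CMb 68 r = true := by decide +kernel

theorem cmX' : ∀ r : Fin 72, r ∈ [(48 : Fin 72), 68] → CMb 49 r = true ∧ CMb 67 r = true := by decide +kernel

theorem rA_mem : ∀ i : Fin 3, rA i ∈ [(49 : Fin 72), 62, 67, 54] ∨ rA i ∈ [(48 : Fin 72), 68] := by decide
theorem rB_mem : ∀ i : Fin 3, rB i ∈ [(49 : Fin 72), 62, 67, 54] ∨ rB i ∈ [(48 : Fin 72), 68] := by decide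

theorem scX {r : Fin 72} (hr : r ∈ [(49 : Fin 72), 62, 67, 54] ∨ r ∈ [(48 : Fin 72), 68]) (v u : K) :
    SC.{u, v} (Y hφ hqq 71 v) (Y hφ hqq r u) := by
  rcases hr with hr | hr
  · exact sc1 hφ hqq fb71.1 (by norm_num) (fun t => Y_comm hφ hqq (cmX r hr).1 t u)
      (fun t => Y_comm hφ hqq (cmX r hr).2 t u) v
  · exact sc1 hφ hqq fb71.2 (by norm_num) (fun t => Y_comm hφ hqq (cmX' r hr).1 t u)
      (fun t => Y_comm hφ hqq (cmX' r hr).2 t u) v

theorem scZ {t₀ : K} (ht₀ : φ t₀ ≠ t₀) {r : Fin 72} (hr : r ∈ [(49 : Fin 72), 62, 67, 54] ∨ r ∈ [(48 : Fin 72), 68])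
    (u s : K) (hs : φ s = s) : SC.{u, v} (Z hφ hqq 71 rho71 hs) (Y hφ hqq r u) := by
  obtain ⟨v, hv⟩ := exists_trace hφ hqq ht₀ hs
  rw [Z_eq hφ hqq rho71 hs hv]
  exact scX hφ hqq hr v u

/-- certificates for the same root -/
theorem fb_self : (FB 13 64 48 1 = true ∧ CMb 13 48 = true ∧ CMb 64 48 = true) ∧
    (FB 12 66 49 1 = true ∧ CMb 12 49 = true ∧ CMb 66 49 = true) ∧
    (FB 28 67 62 (-1) = true ∧ CMb 28 62 = true ∧ CMb 67 62 = true) := by decide +kernel

theorem sc_self (i : Fin 3) (v u : K) : SC.{u, v} (Y hφ hqq (rA i) v) (Y hφ hqq (rA i) u) := by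
  obtain ⟨⟨h1, h2, h3⟩, ⟨h4, h5, h6⟩, h7, h8, h9⟩ := fb_self
  fin_cases i
  · exact sc1 hφ hqq h1 (by norm_num) (fun t => Y_comm hφ hqq h2 t u) (fun t => Y_comm hφ hqq h3 t u) v
  · exact sc1 hφ hqq h4 (by norm_num) (fun t => Y_comm hφ hqq h5 t u) (fun t => Y_comm hφ hqq h6 t u) v
  · exact sc1 hφ hqq h7 (by norm_num) (fun t => Y_comm hφ hqq h8 t u) (fun t => Y_comm hφ hqq h9 t u) v

/-- the certificate for two different roots `a`, `b` -/
def C3 (a b α c : Fin 72) (m m' : ℤ) : Bool :=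
  (rho α == α) && ((brc α.val c.val a.val m && (brc c.val (rho a).val 71 m' && cm chevE6 71 (rho a).val)) &&
    ((cm chevE6 α.val b.val && cm chevE6 α.val (rho b).val) && CMb c b))

theorem sc_C3 {t₀ : K} (ht₀ : φ t₀ ≠ t₀) {a b α c : Fin 72} {m m' : ℤ} (h : C3 a b α c m m' = true) (hm : m * m = 1)
    (hb : b ∈ [(49 : Fin 72), 62, 67, 54] ∨ b ∈ [(48 : Fin 72), 68]) (v u : K) :
    SC.{u, v} (Y hφ hqq a v) (Y hφ hqq b u) := by
  unfold C3 at h
  rw [Bool.and_eq_true, Bool.and_eq_true, beq_iff_eq] at h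
  obtain ⟨hα, h1, h23⟩ := h
  obtain ⟨h2, h3⟩ := Bool.and_eq_true_iff.1 h23
  exact sc3 hφ hqq hα rho71 h1 hm (Z_comm hφ hqq hα (map_one φ) h2 u) (fun t => Y_comm hφ hqq h3 t u)
    (fun s hs => scZ hφ hqq ht₀ hb u s hs) v

theorem c3_all : C3 48 49 11 66 (-1) (-1) = true ∧ C3 48 62 11 66 (-1) (-1) = true ∧ C3 49 62 27 55 1 1 = true ∧
    C3 68 49 60 50 (-1) 1 = true ∧ C3 68 62 60 50 (-1) 1 = true ∧ C3 67 48 44 61 1 (-1) = true ∧
    C3 67 62 44 61 1 (-1) = true ∧ C3 54 48 39 52 1 1 = true ∧ C3 54 49 39 52 1 1 = true := by decide +kernel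

theorem sc_AA {t₀ : K} (ht₀ : φ t₀ ≠ t₀) (i j : Fin 3) (v u : K) :
    SC.{u, v} (Y hφ hqq (rA i) v) (Y hφ hqq (rA j) u) := by
  obtain ⟨h1, h2, h3, -⟩ := c3_all
  have k1 : ∀ v u, SC.{u, v} (Y hφ hqq 48 v) (Y hφ hqq 49 u) :=
    sc_C3 hφ hqq ht₀ h1 (by norm_num) (by decide)
  have k2 : ∀ v u, SC.{u, v} (Y hφ hqq 48 v) (Y hφ hqq 62 u) :=
    sc_C3 hφ hqq ht₀ h2 (by norm_num) (by decide)
  have k3 : ∀ v u, SC.{u, v} (Y hφ hqq 49 v) (Y hφ hqq 62 u) :=
    sc_C3 hφ hqq ht₀ h3 (by norm_num) (by decide)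
  rcases eq_or_ne i j with rfl | hij
  · exact sc_self hφ hqq i v u
  fin_cases i <;> fin_cases j
  · exact absurd rfl hij
  · exact k1 v u
  · exact k2 v u
  · exact (k1 u v).symm
  · exact absurd rfl hij
  · exact k3 v u
  · exact (k2 u v).symm
  · exact (k3 u v).symm
  · exact absurd rfl hij

theorem sc_BA {t₀ : K} (ht₀ : φ t₀ ≠ t₀) (i j : Fin 3) (hij : i ≠ j) (v u : K) :
    SC.{u, v} (Y hφ hqq (rB i) v) (Y hφ hqq (rA j) u) := by
  obtain ⟨-, -, -, h1, h2, h3, h4, h5, h6⟩ := c3_all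
  fin_cases i <;> fin_cases j
  · exact absurd rfl hij
  · exact sc_C3 hφ hqq ht₀ h1 (by norm_num) (by decide) v u
  · exact sc_C3 hφ hqq ht₀ h2 (by norm_num) (by decide) v u
  · exact sc_C3 hφ hqq ht₀ h3 (by norm_num) (by decide) v u
  · exact absurd rfl hij
  · exact sc_C3 hφ hqq ht₀ h4 (by norm_num) (by decide) v u
  · exact sc_C3 hφ hqq ht₀ h5 (by norm_num) (by decide) v u
  · exact sc_C3 hφ hqq ht₀ h6 (by norm_num) (by decide) v u
  · exact absurd rfl hij

theorem fb_tie : (FB 36 48 49 1 = true ∧ FB 36 67 68 1 = true) ∧ (FB 57 48 62 1 = true ∧ FB 57 54 68 (-1) = true) := by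
  decide +kernel

/-- the ties -/
theorem tie0 {c a b a' b' : Fin 72} {m : ℤ} (h1 : FB c a a' 1 = true) (h2 : FB c b' b m = true) {e e' : ℤ}
    (he : e' * m = - e) (hc : ∀ t u : K, Y hφ hqq a' t * Y hφ hqq a u = Y hφ hqq a u * Y hφ hqq a' t)
    (hc' : ∀ t u : K, Y hφ hqq b t * Y hφ hqq b' u = Y hφ hqq b' u * Y hφ hqq b t) (t : K) :
    ∃ g : ↥(twistedE6 K q), ∀ x y : K, g * Y hφ hqq a x * g⁻¹ = Y hφ hqq a x * Y hφ hqq a' (t * x) ∧
      g * Y hφ hqq b' (e' * y) * g⁻¹ = Y hφ hqq b' (e' * y) * Y hφ hqq b (e * -(t * y)) := by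
  refine ⟨Y hφ hqq c t, fun x y => ⟨?_, ?_⟩⟩
  · have k := Y_br hφ hqq h1 t x
    rw [Int.cast_one, one_mul] at k
    rw [← hc, ← k]
    group
  · have k := Y_br hφ hqq h2 t (e' * y)
    have k1 : (m : K) * t * (e' * y) = e * -(t * y) := by
      have : (e' : K) * m = -e := by rw [← Int.cast_mul, he, Int.cast_neg]
      linear_combination t * y * this
    rw [k1] at k
    rw [← hc', ← k]
    group

theorem heis {t₀ : K} (ht₀ : φ t₀ ≠ t₀) : Heis.{u, v} (T := ↥(twistedE6 K q)) 3 (fun s : K => Y hφ hqq 71 s)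
    (fun i t => Y hφ hqq (rA i) t) (fun i t => Y hφ hqq (rB i) (eB i * t)) where
  X_add := Y_add hφ hqq 71
  A_add i := Y_add hφ hqq (rA i)
  B_add i s t := by rw [mul_add]; exact Y_add hφ hqq (rB i) _ _
  AB i a b := by
    rw [Y_br hφ hqq (fb_AB i).1]
    congr 1
    have : (eB i : K) * eB i = 1 := by rw [← Int.cast_mul, (fb_AB i).2, Int.cast_one]
    linear_combination a * b * this
  XX s t := sc1 hφ hqq fb71.1 (by norm_num) (fun v => Y_comm hφ hqq cm71.1 v t) (fun v => Y_comm hφ hqq cm71.2 v t) s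
  XA i s a := scX hφ hqq (rA_mem i) s a
  XB i s b := scX hφ hqq (rB_mem i) s _
  AA i j a b := sc_AA hφ hqq ht₀ i j a b
  BA i j hij a b := sc_BA hφ hqq ht₀ i j hij _ b
  two := by norm_num
  tie i hi := by
    refine ⟨0, hi, Or.inl ?_⟩
    obtain ⟨⟨h1, h2⟩, h3, h4⟩ := fb_tie
    fin_cases i
    · exact absurd hi (by norm_num)
    · refine ⟨by decide, fun t => ?_⟩
      exact tie0 hφ hqq (e := 1) (e' := -1) h1 h2 (by norm_num) (Y_comm hφ hqq (by decide +kernel))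
        (Y_comm hφ hqq (by decide +kernel)) t
    · refine ⟨by decide, fun t => ?_⟩
      exact tie0 hφ hqq (e := 1) (e' := 1) h3 h4 (by norm_num) (Y_comm hφ hqq (by decide +kernel))
        (Y_comm hφ hqq (by decide +kernel)) t

end

/-- **The lower bound `q ^ 6` for `²E₆(q)`**, arbitrary centres. -/
theorem ls {K : Type u} [Field K] [Fintype K] {q r : ℕ} [CharP K r] (hq : IsPrimePow q)
    (hK : Fintype.card K = q ^ 2) : LS.{u, v, w} r (q ^ 6) ↥(twistedE6 K q) := by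
  have hs : IsSimpleGroup ↥(twistedE6 K q) := (Cfsg.Agent.S1070.result hq hK).1
  obtain ⟨φ, hφ, hqq⟩ := TwE6Basic.exists_frob hq hK
  obtain ⟨t₀, ht₀⟩ := exists_ne' hφ hq.one_lt hK
  obtain ⟨v, hv⟩ := exists_trace hφ hqq ht₀ (s := 1) (map_one φ)
  have h := LS.heis (r := r) (heis.{u, v} hφ hqq ht₀) (s₀ := v) ?_ (τ := PUnit.{u + 1}) (fun _ => 1) (fun _ => 1)
    (fun _ _ _ => rfl) (fun _ _ => 1) (fun _ => 1) (fun _ _ => one_ne_zero) (i₀ := 0) rfl (fun t i a => by simp)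
    (fun t b => by simp) (fun t => by simp)
  · have e : Nat.card PUnit.{u + 1} * Nat.card K ^ 3 = q ^ 6 := by
      rw [Nat.card_eq_fintype_card (α := K), hK, Nat.card_unique, one_mul, ← pow_mul]
    rw [e] at h
    exact h
  · intro h1
    have h2 := congrArg Subtype.val h1
    rw [← Z_eq hφ hqq rho71 (map_one φ) hv] at h2
    have h3 : x 71 (1 : K) = 1 := h2
    rw [x_eq_one_iff (by norm_num)] at h3
    exact one_ne_zero h3

end Cfsg.Agent.H656.LSTwE6
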