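import Cfsg.Agent.H203.LSRank
import Cfsg.Agent.Mrg.Omega.Lie.HeisF
import Cfsg.Agent.S1054

/-!
# Lower bounds for the degrees of the projective representations of `F₄(2)`

`ls` : `LS 2 15 (chevF4.group F)`, `|F| = 2`, arbitrary centres (a Frobenius group `2⁴:15`).
`ls_of_sixteen` : the same for all groups containing such a Frobenius group.
-/

set_option autoImplicit false

universe u v w

namespace Cfsg.Agent.H656.LSF4two

open Cfsg.Agent.H203.LS

/-! ### The field of order 16 -/

/-- a field with 16 elements -/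
abbrev K16 := GaloisField 2 4

instance factTwo : Fact (Nat.Prime 2) := ⟨Nat.prime_two⟩

noncomputable instance fintypeK : Fintype K16 := Fintype.ofFinite _

theorem card_K : Fintype.card K16 = 16 := by
  rw [← Nat.card_eq_fintype_card, GaloisField.card 2 4 (by norm_num)]; norm_num

theorem two_eq : (2 : K16) = 0 := by
  have := CharP.cast_eq_zero K16 2
  exact_mod_cast this

theorem exists_root : ∃ u : K16, u ^ 4 = u + 1 := by
  classical
  by_contra h
  push Not at h
  have h2 := two_eq
  let g : Polynomial K16 := Polynomial.X ^ 12 + (Polynomial.X ^ 9 + (Polynomial.X ^ 8 + (Polynomial.X ^ 6 +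
    (Polynomial.X ^ 4 + (Polynomial.X ^ 3 + (Polynomial.X ^ 2 + Polynomial.X))))))
  have hg : ∀ a : K16, g.eval a = 0 := by
    intro a
    have h16 : a ^ 16 = a := by
      have := FiniteField.pow_card a
      rwa [card_K] at this
    have h3 : (a ^ 4 + a + 1) * (a ^ 12 + (a ^ 9 + (a ^ 8 + (a ^ 6 + (a ^ 4 + (a ^ 3 + (a ^ 2 + a))))))) = 0 := by
      linear_combination h16 + (a + a ^ 5 + a ^ 6 + a ^ 7 + a ^ 8 + a ^ 10 + a ^ 12 + a ^ 13 + a ^ 2 + a ^ 3 + a ^ 4 +
        a ^ 9) * h2
    have h4 : a ^ 4 + a + 1 ≠ 0 := by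
      intro h5
      apply h a
      linear_combination h5 - (a + 1) * h2
    have h5 := (mul_eq_zero.1 h3).resolve_left h4
    simp only [g, Polynomial.eval_add, Polynomial.eval_pow, Polynomial.eval_X]
    exact h5
  have hdeg : g.natDegree = 12 := by
    simp only [g]
    compute_degree!
  have hg0 : g ≠ 0 := by
    intro h0
    rw [h0, Polynomial.natDegree_zero] at hdeg
    exact absurd hdeg (by norm_num)
  have h3 : Fintype.card K16 ≤ g.roots.toFinset.card := by
    rw [← Finset.card_univ]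
    refine Finset.card_le_card fun t _ => ?_
    rw [Multiset.mem_toFinset, Polynomial.mem_roots hg0]
    exact hg t
  have h4 := (h3.trans (Multiset.toFinset_card_le _)).trans (Polynomial.card_roots' _)
  rw [hdeg, card_K] at h4
  omega

theorem orderOf_root {u : K16} (hu : u ^ 4 = u + 1) : orderOf u = 15 := by
  have h2 := two_eq
  have hu0 : u ≠ 0 := by
    rintro rfl
    simp at hu
  refine orderOf_eq_of_pow_and_pow_div_prime (by norm_num) ?_ ?_
  · have := FiniteField.pow_card_sub_one_eq_one u hu0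
    rwa [card_K] at this
  · intro p hp hd h
    have h3 : p = 3 ∨ p = 5 := by
      have h4 : p ∣ 3 * 5 := hd
      rcases hp.dvd_mul.1 h4 with h5 | h5
      · exact Or.inl ((Nat.prime_dvd_prime_iff_eq hp Nat.prime_three).1 h5)
      · exact Or.inr ((Nat.prime_dvd_prime_iff_eq hp (by norm_num)).1 h5)
    rcases h3 with rfl | rfl
    · have h5 : u ^ 5 = 1 := h
      have h6 : u ^ 2 + u = 1 := by linear_combination h5 - u * hu
      have h7 : u ^ 4 = u ^ 2 + 1 := by linear_combination (u ^ 2 + 1 - u) * h6 - u * h2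
      have h8 : u ^ 2 = u := by linear_combination hu - h7
      have h9 : (1 : K16) = 0 := by linear_combination h8 - h6 + u * h2
      exact one_ne_zero h9
    · have h5 : u ^ 3 = 1 := h
      have h9 : (1 : K16) = 0 := by linear_combination u * h5 - hu
      exact one_ne_zero h9

/-! ### Coordinates -/

/-- the companion matrix of `X ^ 4 + X + 1` -/
def C4 (a : Fin 4 → ZMod 2) : Fin 4 → ZMod 2 := ![a 3, a 0 + a 3, a 1, a 2]

/-- the first basis vector -/
def e0 : Fin 4 → ZMod 2 := ![1, 0, 0, 0]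

theorem C4_trans : ∀ a : Fin 4 → ZMod 2, a ≠ 0 → ∃ k : Fin 15, a = C4^[k] e0 := by decide +kernel

/-- the coordinates with respect to the powers of `u` -/
noncomputable def Lu (u : K16) : (Fin 4 → ZMod 2) →+ K16 where
  toFun a := ∑ i : Fin 4, algebraMap (ZMod 2) K16 (a i) * u ^ (i : ℕ)
  map_zero' := by simp
  map_add' a b := by
    rw [← Finset.sum_add_distrib]
    refine Finset.sum_congr rfl fun i _ => ?_
    rw [Pi.add_apply, map_add, add_mul]

theorem Lu_apply (u : K16) (a : Fin 4 → ZMod 2) : Lu u a = algebraMap (ZMod 2) K16 (a 0) +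
    algebraMap (ZMod 2) K16 (a 1) * u + algebraMap (ZMod 2) K16 (a 2) * u ^ 2 +
    algebraMap (ZMod 2) K16 (a 3) * u ^ 3 := by
  change ∑ i : Fin 4, algebraMap (ZMod 2) K16 (a i) * u ^ (i : ℕ) = _
  rw [Fin.sum_univ_four]
  simp

theorem Lu_C4 {u : K16} (hu : u ^ 4 = u + 1) (a : Fin 4 → ZMod 2) : Lu u (C4 a) = u * Lu u a := by
  rw [Lu_apply, Lu_apply]
  simp only [C4, Matrix.cons_val_zero, Matrix.cons_val_one, Matrix.cons_val_two, Matrix.cons_val_three,
    Matrix.head_cons, Matrix.tail_cons, map_add]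
  linear_combination -(algebraMap (ZMod 2) K16 (a 3)) * hu

theorem Lu_injective {u : K16} (hu : u ^ 4 = u + 1) : Function.Injective (Lu u) := by
  rw [injective_iff_map_eq_zero]
  intro a ha
  by_contra h
  obtain ⟨k, hk⟩ := C4_trans a h
  have h1 : ∀ n : ℕ, Lu u (C4^[n] e0) = u ^ n := by
    intro n
    induction n with
    | zero =>
      rw [Function.iterate_zero, id, Lu_apply, pow_zero]
      simp [e0]
    | succ n ih => rw [Function.iterate_succ_apply', Lu_C4 hu, ih, pow_succ']
  rw [hk, h1] at ha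
  have h2 := eq_zero_of_pow_eq_zero ha
  rw [h2] at hu
  simp at hu

theorem Lu_bijective {u : K16} (hu : u ^ 4 = u + 1) : Function.Bijective (Lu u) := by
  rw [Fintype.bijective_iff_injective_and_card]
  refine ⟨Lu_injective hu, ?_⟩
  rw [card_K, Fintype.card_fun, ZMod.card, Fintype.card_fin]
  norm_num

/-- **The bound 15** for simple groups with an elementary abelian group of order 16 and an element acting on it as a
companion matrix of `X ^ 4 + X + 1`. -/
theorem ls_of_sixteen {T : Type u} [Group T] [IsSimpleGroup T] (β : (Fin 4 → ZMod 2) → T)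
    (hβ : ∀ x y, β (x + y) = β x * β y) (c : T) (hc : ∀ a, c * β a * c⁻¹ = β (C4 a)) {a₀ : Fin 4 → ZMod 2}
    (h0 : β a₀ ≠ 1) : LS.{u, v, w} 2 15 T := by
  obtain ⟨u, hu⟩ := exists_root
  let L : (Fin 4 → ZMod 2) ≃+ K16 := AddEquiv.ofBijective (Lu u) (Lu_bijective hu)
  have hL : ∀ x, L.symm (u * x) = C4 (L.symm x) := by
    intro x
    apply L.injective
    rw [AddEquiv.apply_symm_apply]
    change _ = Lu u (C4 (L.symm x))
    rw [Lu_C4 hu]
    change _ = u * L (L.symm x)
    rw [AddEquiv.apply_symm_apply]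
  have h := LS.frob'.{u, v, w} (r := 2) (K := K16) (u := u) (Or.inl ?_) ?_ (T := T) (α := fun x => β (L.symm x))
    (fun x y => by rw [map_add, hβ]) (x₀ := L a₀) (by rw [AddEquiv.symm_apply_apply]; exact h0) (c := c)
    (fun x => by rw [hc, hL])
  · rwa [orderOf_root hu] at h
  · rw [Nat.card_eq_fintype_card, card_K, orderOf_root hu]; norm_num
  · intro q0 hq
    rw [Nat.card_eq_fintype_card, card_K] at hq
    rw [orderOf_root hu]
    have : q0 < 5 := by
      by_contra h5
      have : 25 ≤ q0 ^ 2 := by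
        calc 25 = 5 ^ 2 := by norm_num
          _ ≤ q0 ^ 2 := Nat.pow_le_pow_left (by omega) 2
      omega
    omega

/-! ### The group `F₄(2)` -/

open Cfsg.Lie Cfsg.Lie.ChevalleyDatum Cfsg.Agent.ChevalleyStructure Cfsg.Agent.ChevalleyStructure.Elts
open Cfsg.Agent.Omega.TwoF.ChevHeis (xK xK_add xK_zero xK_word)

theorem hF : InList chevF4 := by simp [InList]

/-- the roots on the right side of the commutator formula with odd coefficients -/
def oddT (r s : ℕ) : List ℕ := ((chevF4.commTerms r s).filter fun c => c.2.1 % 2 != 0).map fun c => c.1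

section

variable {F : Type w} [Field F]

/-- the root elements with parameter one -/
def X (F : Type w) [Field F] (r : ℕ) : chevF4.group F := xK hF r (1 : F)

theorem X_mul_self (h2 : (2 : F) = 0) (r : ℕ) : X F r * X F r = 1 := by
  rw [X, ← xK_add, one_add_one_eq_two, h2, xK_zero]

theorem word_eq (h2 : (2 : F) = 0) : ∀ l : List (ℕ × ℤ × ℕ × ℕ),
    (⟨wordG hF (l.map fun c => (c.1, (c.2.1 : F) * (-1) ^ c.2.2.1 * 1 ^ c.2.2.2)), wordG_mem_group hF _⟩ :
      chevF4.group F) = (((l.filter fun c => c.2.1 % 2 != 0).map fun c => c.1).map (X F)).prod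
  | [] => rfl
  | c :: l => by
    have ih := word_eq h2 l
    have h1 : (-1 : F) = 1 := by linear_combination -h2
    have e : (⟨wordG hF ((c :: l).map fun c => (c.1, (c.2.1 : F) * (-1) ^ c.2.2.1 * 1 ^ c.2.2.2)), wordG_mem_group hF _⟩ :
        chevF4.group F) = xK hF c.1 (c.2.1 : F) *
          ⟨wordG hF (l.map fun c => (c.1, (c.2.1 : F) * (-1) ^ c.2.2.1 * 1 ^ c.2.2.2)), wordG_mem_group hF _⟩ := by
      apply Subtype.ext
      change wordG hF _ = xG hF c.1 (c.2.1 : F) * wordG hF _
      rw [List.map_cons, wordG_cons]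
      congr 2
      rw [h1, one_pow, one_pow, mul_one, mul_one]
    rw [e, ih]
    by_cases hc : c.2.1 % 2 = 0
    · have h3 : (c.2.1 : F) = 0 := by
        obtain ⟨d, hd⟩ := Int.dvd_of_emod_eq_zero hc
        rw [hd, Int.cast_mul]
        have : ((2 : ℤ) : F) = 0 := by rw [Int.cast_ofNat]; exact h2
        rw [this, zero_mul]
      rw [h3, xK_zero, one_mul, List.filter_cons_of_neg (by simp [hc])]
    · have h3 : (c.2.1 : F) = 1 := by
        obtain ⟨d, hd⟩ : ∃ d, c.2.1 = 2 * d + 1 := ⟨c.2.1 / 2, by omega⟩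
        rw [hd, Int.cast_add, Int.cast_mul, Int.cast_one]
        have : ((2 : ℤ) : F) = 0 := by rw [Int.cast_ofNat]; exact h2
        rw [this, zero_mul, zero_add]
      rw [h3, List.filter_cons_of_pos (by simp [hc]), List.map_cons, List.map_cons, List.prod_cons]
      rfl

theorem X_rel (h2 : (2 : F) = 0) {r s : ℕ} (hr : r < 48) (hs : s < 48) (hrs : s ≠ r) (hneg : s ≠ chevF4.neg r) :
    X F s * X F r = X F r * X F s * ((oddT r s).map (X F)).prod := by
  have h := xK_word hF (F := F) hr hs hrs hneg 1 1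
  have e : (⟨wordG hF (chevF4.commWord F r s 1 1), wordG_mem_group hF _⟩ : chevF4.group F) =
      ((oddT r s).map (X F)).prod := word_eq h2 _
  rw [e] at h
  exact h

/-- the ten roots -/
def rr : Fin 10 → ℕ := ![27, 28, 29, 44, 30, 31, 45, 32, 46, 47]

/-- position -/
def idx (x : ℕ) : Fin 10 := ((List.finRange 10).find? fun j => rr j == x).getD 0

theorem rr_comm : ∀ i j : Fin 10, i ≠ j → rr j ≠ rr i ∧ rr j ≠ chevF4.neg (rr i) ∧ oddT (rr i) (rr j) = [] := by
  decide +kernel

theorem rr_lt : ∀ i : Fin 10, rr i < 48 := by decide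

theorem X_comm (h2 : (2 : F) = 0) (i j : Fin 10) : Commute (X F (rr i)) (X F (rr j)) := by
  rcases eq_or_ne i j with rfl | hij
  · exact Commute.refl _
  obtain ⟨h1, h3, h4⟩ := rr_comm i j hij
  have h := X_rel h2 (rr_lt i) (rr_lt j) h1 h3
  rw [h4, List.map_nil, List.prod_nil, mul_one] at h
  exact h.symm

/-- the generator of the group of order two -/
abbrev gg : Multiplicative (ZMod 2) := Multiplicative.ofAdd 1

theorem cases_two (x : Multiplicative (ZMod 2)) : x = 1 ∨ x = gg := by
  revert x; decide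

/-- the homomorphism onto a group of order two -/
def ph (h2 : (2 : F) = 0) (i : Fin 10) : Multiplicative (ZMod 2) →* chevF4.group F where
  toFun x := if x = 1 then 1 else X F (rr i)
  map_one' := by simp
  map_mul' x y := by
    rcases cases_two x with rfl | rfl <;> rcases cases_two y with rfl | rfl
    · simp
    · simp
    · simp
    · have h1 : gg * gg = 1 := by decide
      have h3 : gg ≠ 1 := by decide
      rw [h1, if_pos rfl, if_neg h3, X_mul_self h2]

theorem gg_ne : gg ≠ 1 := by decide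

theorem ph_gg (h2 : (2 : F) = 0) (i : Fin 10) : ph h2 i gg = X F (rr i) := by
  change (if gg = 1 then (1 : chevF4.group F) else X F (rr i)) = X F (rr i)
  rw [if_neg gg_ne]

theorem ph_comm (h2 : (2 : F) = 0) : Pairwise fun i j : Fin 10 => ∀ x y, Commute (ph h2 i x) (ph h2 j y) := by
  intro i j _ x y
  rcases cases_two x with rfl | rfl
  · rw [map_one]; exact Commute.one_left _
  rcases cases_two y with rfl | rfl
  · rw [map_one]; exact Commute.one_right _
  rw [ph_gg, ph_gg]
  exact X_comm h2 i j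

/-- the elementary abelian group of order `2 ^ 10` -/
def Ps (h2 : (2 : F) = 0) : (Fin 10 → Multiplicative (ZMod 2)) →* chevF4.group F :=
  MonoidHom.noncommPiCoprod (ph h2) (ph_comm h2)

theorem Ps_single (h2 : (2 : F) = 0) (i : Fin 10) : Ps h2 (Pi.mulSingle i gg) = X F (rr i) := by
  rw [Ps, MonoidHom.noncommPiCoprod_mulSingle, ph_gg]

/-- the standard vectors -/
def es (i : Fin 10) : Fin 10 → Multiplicative (ZMod 2) := fun j => if j = i then gg else 1

theorem es_eq (i : Fin 10) : es i = Pi.mulSingle i gg := by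
  funext j
  rw [es, Pi.mulSingle_apply]

theorem Ps_es (h2 : (2 : F) = 0) (i : Fin 10) : Ps h2 (es i) = X F (rr i) := by
  rw [es_eq, Ps_single]

/-- a linear map -/
def Mb (B : Fin 10 → Fin 10 → Bool) : (Fin 10 → Multiplicative (ZMod 2)) →* (Fin 10 → Multiplicative (ZMod 2)) where
  toFun v j := v j * ∏ k : Fin 10, if B j k then v k else 1
  map_one' := by
    funext j
    simp
  map_mul' v w := by
    funext j
    have e : ∀ k : Fin 10, (if B j k then (v * w) k else 1) = (if B j k then v k else 1) * (if B j k then w k else 1) := by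
      intro k
      split
      · rfl
      · rw [mul_one]
    rw [Finset.prod_congr rfl fun k _ => e k, Finset.prod_mul_distrib]
    exact mul_mul_mul_comm _ _ _ _

/-- the nontrivial columns of the matrices of the four root elements -/
def tb : Fin 4 → Fin 10 → List (Fin 10) :=
  ![![[], [0, 4], [], [], [], [], [], [5], [6], []],
    ![[2, 5], [], [], [], [7], [], [9], [], [], []],
    ![[], [], [3, 9], [], [], [6], [], [8], [], []],
    ![[], [], [], [1, 8], [], [], [4], [], [], [7]]]

/-- the four roots -/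
def al4 : Fin 4 → ℕ := ![22, 26, 41, 5]

/-- the matrix of a root element -/
def Bt (t : Fin 4) (j k : Fin 10) : Bool := (tb t k).contains j

/-- the action of a root element -/
def Mh (t : Fin 4) : (Fin 10 → Multiplicative (ZMod 2)) →* (Fin 10 → Multiplicative (ZMod 2)) := Mb (Bt t)

theorem al4_lt : ∀ t : Fin 4, al4 t < 48 := by decide

theorem tb_check : ∀ t : Fin 4, ∀ k : Fin 10, al4 t ≠ rr k ∧ al4 t ≠ chevF4.neg (rr k) ∧
    oddT (rr k) (al4 t) = (tb t k).map rr := by
  decide +kernel

theorem tb_comm : ∀ t : Fin 4, ∀ k : Fin 10, ∀ j ∈ tb t k, al4 t ≠ rr j ∧ al4 t ≠ chevF4.neg (rr j) ∧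
    oddT (rr j) (al4 t) = [] := by
  decide +kernel

theorem Mh_es : ∀ t : Fin 4, ∀ k : Fin 10, ∀ j : Fin 10, Mh t (es k) j = (es k * ((tb t k).map es).prod) j := by
  decide +kernel

theorem list_Ps (h2 : (2 : F) = 0) : ∀ l : List (Fin 10), Ps h2 (l.map es).prod = (l.map fun j => X F (rr j)).prod
  | [] => by rw [List.map_nil, List.map_nil, List.prod_nil, List.prod_nil, map_one]
  | a :: l => by rw [List.map_cons, List.map_cons, List.prod_cons, List.prod_cons, map_mul, Ps_es, list_Ps h2 l]

theorem map_oddT (t : Fin 4) (k : Fin 10) :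
    ((oddT (rr k) (al4 t)).map (X F)).prod = ((tb t k).map fun j => X F (rr j)).prod := by
  rw [(tb_check t k).2.2, List.map_map]
  rfl

theorem comm_list (h2 : (2 : F) = 0) (t : Fin 4) (k : Fin 10) :
    X F (al4 t) * ((tb t k).map fun j => X F (rr j)).prod = ((tb t k).map fun j => X F (rr j)).prod * X F (al4 t) := by
  refine Commute.list_prod_right _ _ fun y hy => ?_
  obtain ⟨j, hj, rfl⟩ := List.mem_map.1 hy
  obtain ⟨a1, a2, a4⟩ := tb_comm t k j hj
  have h := X_rel (F := F) h2 (rr_lt j) (al4_lt t) a1 a2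
  rw [a4, List.map_nil, List.prod_nil, mul_one] at h
  exact h

theorem conj_es (h2 : (2 : F) = 0) (t : Fin 4) (k : Fin 10) :
    X F (al4 t) * Ps h2 (es k) * (X F (al4 t))⁻¹ = Ps h2 (Mh t (es k)) := by
  obtain ⟨h1, h3, -⟩ := tb_check t k
  have h5 : Mh t (es k) = es k * ((tb t k).map es).prod := funext (Mh_es t k)
  have h6 := X_rel (F := F) h2 (rr_lt k) (al4_lt t) h1 h3
  have h7 : Ps h2 (es k * ((tb t k).map es).prod) = X F (rr k) * ((tb t k).map fun j => X F (rr j)).prod := by
    rw [map_mul, Ps_es, list_Ps]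
  rw [h5, h7, Ps_es, h6, map_oddT, mul_assoc (X F (rr k)), comm_list h2]
  group

theorem conj_Ps (h2 : (2 : F) = 0) (t : Fin 4) (v : Fin 10 → Multiplicative (ZMod 2)) :
    X F (al4 t) * Ps h2 v * (X F (al4 t))⁻¹ = Ps h2 (Mh t v) := by
  have h : (MulAut.conj (X F (al4 t))).toMonoidHom.comp (Ps h2) = (Ps h2).comp (Mh t) := by
    refine MonoidHom.pi_ext fun k x => ?_
    rcases cases_two x with rfl | rfl
    · rw [Pi.mulSingle_one, map_one, map_one]
    · rw [← es_eq]
      exact conj_es h2 t k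
  exact DFunLike.congr_fun h v

/-- the columns -/
def cols (i : Fin 4) (j : Fin 10) : Multiplicative (ZMod 2) :=
  if ((![0b1000110, 0b11101111, 0b1000010001, 0b1101110101] : Fin 4 → ℕ) i).testBit j then gg else 1

/-- the embedding of `2 ^ 4` -/
def Nn (a : Fin 4 → ZMod 2) : Fin 10 → Multiplicative (ZMod 2) :=
  fun j => ∏ i : Fin 4, if a i = 0 then 1 else cols i j

theorem Nn_add : ∀ a b : Fin 4 → ZMod 2, ∀ j : Fin 10, Nn (a + b) j = Nn a j * Nn b j := by decide +kernel

theorem Nn_C4 : ∀ a : Fin 4 → ZMod 2, ∀ j : Fin 10, Mh 0 (Mh 1 (Mh 2 (Mh 3 (Nn a)))) j = Nn (C4 a) j := by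
  decide +kernel

theorem Nn_e0 : ∀ j : Fin 10, Mh 1 (Nn e0) j = Nn e0 j * es 9 j := by decide +kernel

theorem X_ne_one {r : ℕ} (hr : r < 48) : X F r ≠ 1 := by
  intro h
  have h1 : xG (F := F) hF r 1 = xG hF r 0 := by
    have h2 := congrArg Subtype.val h
    rw [xG_zero]
    exact h2
  exact one_ne_zero (xG_injective hF (r := r) hr h1)

theorem Ps_e0 (h2 : (2 : F) = 0) : Ps h2 (Nn e0) ≠ 1 := by
  intro h
  have h3 := conj_Ps h2 1 (Nn e0)
  have h4 : Mh 1 (Nn e0) = Nn e0 * es 9 := funext Nn_e0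
  rw [h4, map_mul, h, mul_one, mul_inv_cancel, one_mul, Ps_es] at h3
  exact X_ne_one (by decide) h3.symm

end

/-- **The bound 15 for `F₄(2)`** -/
theorem ls {F : Type w} [Field F] (hc : Nat.card F = 2) : LS.{w, u, v} 2 15 (chevF4.group F) := by
  have hfin : Finite F := Nat.finite_of_card_ne_zero (by omega)
  have h2 : (2 : F) = 0 := by
    have := Fintype.ofFinite F
    have h := Nat.cast_card_eq_zero F
    rw [← Nat.card_eq_fintype_card, hc] at h
    exact_mod_cast h
  have hs := (Cfsg.Agent.S1054.result (F := F) chevF4 (by simp)).1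
  refine ls_of_sixteen (fun a => Ps h2 (Nn a)) ?_ (X F (al4 0) * X F (al4 1) * X F (al4 2) * X F (al4 3)) ?_ (Ps_e0 h2)
  · intro x y
    have h : Nn (x + y) = Nn x * Nn y := funext (Nn_add x y)
    change Ps h2 (Nn (x + y)) = _
    rw [h, map_mul]
  · intro a
    have h : Mh 0 (Mh 1 (Mh 2 (Mh 3 (Nn a)))) = Nn (C4 a) := funext (Nn_C4 a)
    change _ = Ps h2 (Nn (C4 a))
    rw [← h, ← conj_Ps, ← conj_Ps, ← conj_Ps, ← conj_Ps]
    group

end Cfsg.Agent.H656.LSF4two
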