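import Mathlib
import Cfsg.Prelude.Def_Classical
import Cfsg.Prelude.Def_Exceptional
import Cfsg.Agent.HKS.EndOrd
import Cfsg.Agent.SmallSimple.PSLTwoPart
import Cfsg.Agent.WeakTI.PslTwo

/-!
# Groups with a strongly embedded subgroup and a prime divisor `p` of the order with `|G|₂ = (p - 1)₂`
-/

set_option autoImplicit false

namespace Cfsg.Agent.H656.BenderArith

theorem pow_dvd_of_factorization {n m k : ℕ} (hn : n.factorization 2 = m.factorization 2)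
    (h : 2 ^ k ∣ n) (hn0 : n ≠ 0) : 2 ^ k ∣ m := by
  have h1 : k ≤ n.factorization 2 := (Nat.prime_two.pow_dvd_iff_le_factorization hn0).mp h
  rw [hn] at h1
  exact (pow_dvd_pow 2 h1).trans (Nat.ordProj_dvd m 2)

theorem psl_arith {p n : ℕ} (hp : p.Prime) (hp5 : 5 ≤ p) (hn : 1 ≤ n)
    (h2 : (2 ^ n * ((2 ^ n) ^ 2 - 1)).factorization 2 = (p - 1).factorization 2)
    (hdvd : p ∣ 2 ^ n * ((2 ^ n) ^ 2 - 1)) : p = 2 ^ n + 1 := by
  have hq : 2 ≤ 2 ^ n := by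
    calc 2 = 2 ^ 1 := by norm_num
      _ ≤ 2 ^ n := Nat.pow_le_pow_right (by norm_num) hn
  have hq2 : 1 < (2 ^ n) ^ 2 := by nlinarith
  have h3 : 2 ^ n ∣ p - 1 := pow_dvd_of_factorization h2 (Dvd.intro _ rfl) (by
    apply mul_ne_zero <;> omega)
  have h4 : 2 ^ n ≤ p - 1 := Nat.le_of_dvd (by omega) h3
  have h5 : ¬ p ∣ 2 ^ n := by
    intro h
    have := Nat.le_of_dvd (by positivity) h
    omega
  have h6 : p ∣ (2 ^ n) ^ 2 - 1 := (hp.dvd_mul.mp hdvd).resolve_left h5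
  have h7 : (2 ^ n) ^ 2 - 1 = (2 ^ n + 1) * (2 ^ n - 1) := by
    have := Nat.sq_sub_sq (2 ^ n) 1
    rwa [one_pow] at this
  rw [h7] at h6
  rcases hp.dvd_mul.mp h6 with h | h
  · have := Nat.le_of_dvd (by omega) h
    omega
  · have := Nat.le_of_dvd (by omega) h
    omega

theorem suzuki_arith {p m : ℕ} (hp : p.Prime) (hp5 : 5 ≤ p) (hm : 1 ≤ m) {N : ℕ}
    (hN : N = (2 ^ (2 * m + 1)) ^ 2 * ((2 ^ (2 * m + 1)) ^ 2 + 1) * (2 ^ (2 * m + 1) - 1))
    (h2 : N.factorization 2 = (p - 1).factorization 2) (hdvd : p ∣ N) : False := by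
  set q : ℕ := 2 ^ (2 * m + 1) with hq
  have hq8 : 8 ≤ q := by
    calc 8 = 2 ^ 3 := by norm_num
      _ ≤ 2 ^ (2 * m + 1) := Nat.pow_le_pow_right (by norm_num) (by omega)
  have hN0 : N ≠ 0 := by
    rw [hN]
    apply mul_ne_zero
    · positivity
    · omega
  have h3 : 2 ^ (2 * (2 * m + 1)) ∣ p - 1 := by
    apply pow_dvd_of_factorization h2 _ hN0
    rw [hN, mul_comm 2, pow_mul, ← hq, mul_assoc]
    exact Dvd.intro _ rfl
  rw [mul_comm 2, pow_mul, ← hq] at h3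
  have h4 : q ^ 2 ≤ p - 1 := Nat.le_of_dvd (by omega) h3
  have h5 : q < q ^ 2 := by nlinarith
  rw [hN] at hdvd
  have h6 : p ∣ q ^ 2 + 1 := by
    rcases hp.dvd_mul.mp hdvd with h | h
    · rcases hp.dvd_mul.mp h with h' | h'
      · have := Nat.le_of_dvd (by positivity) (hp.dvd_of_dvd_pow h')
        omega
      · exact h'
    · have := Nat.le_of_dvd (by omega) h
      omega
  have h7 : p = q ^ 2 + 1 := by
    have := Nat.le_of_dvd (by omega) h6
    omega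
  have h8 : 5 ∣ q ^ 2 + 1 := by
    have h9 : q ^ 2 % 5 = 4 := by
      rw [hq, ← pow_mul, mul_comm, pow_mul]
      have : (2 ^ 2) ^ (2 * m + 1) % 5 = 4 := by
        rw [pow_succ, pow_mul]
        rw [Nat.mul_mod, Nat.pow_mod]
        norm_num
      exact this
    omega
  rw [← h7] at h8
  have h9 := (Nat.prime_dvd_prime_iff_eq (by norm_num) hp).mp h8
  nlinarith

theorem psu_arith {p n : ℕ} (hp : p.Prime) (hp5 : 5 ≤ p) (hn : 2 ≤ n) {N : ℕ}
    (hN : Nat.gcd 3 (2 ^ n + 1) * N =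
      (2 ^ n) ^ 3 * ((2 ^ n - 1) * ((2 ^ n + 1) ^ 2 * ((2 ^ n - 1) ^ 2 + (2 ^ n - 1) + 1))))
    (h2 : N.factorization 2 = (p - 1).factorization 2) (hdvd : p ∣ N) : False := by
  have hq4 : 4 ≤ 2 ^ n := by
    calc 4 = 2 ^ 2 := by norm_num
      _ ≤ 2 ^ n := Nat.pow_le_pow_right (by norm_num) hn
  have hN0 : N ≠ 0 := by
    rintro rfl
    rw [mul_zero] at hN
    have : 0 < (2 ^ n) ^ 3 * ((2 ^ n - 1) * ((2 ^ n + 1) ^ 2 * ((2 ^ n - 1) ^ 2 + (2 ^ n - 1) + 1))) := by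
      have : 0 < 2 ^ n - 1 := by omega
      positivity
    omega
  have h3 : 2 ^ (n * 3) ∣ N := by
    have h4 : 2 ^ (n * 3) ∣ Nat.gcd 3 (2 ^ n + 1) * N := by
      rw [hN, pow_mul]
      exact Dvd.intro _ rfl
    refine (Nat.Coprime.dvd_of_dvd_mul_left ?_ h4)
    apply Nat.Coprime.pow_left
    apply Nat.Coprime.coprime_dvd_right (Nat.gcd_dvd_left 3 (2 ^ n + 1))
    norm_num
  have h4 := pow_dvd_of_factorization h2 h3 hN0
  rw [pow_mul] at h4
  have h5 : (2 ^ n) ^ 3 ≤ p - 1 := Nat.le_of_dvd (by omega) h4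
  have h6 : p ∣ (2 ^ n) ^ 3 * ((2 ^ n - 1) * ((2 ^ n + 1) ^ 2 * ((2 ^ n - 1) ^ 2 + (2 ^ n - 1) + 1))) := by
    rw [← hN]
    exact Dvd.dvd.mul_left hdvd _
  generalize 2 ^ n = q at *
  obtain ⟨t, rfl⟩ : ∃ t, q = t + 4 := ⟨q - 4, by omega⟩
  have e1 : t + 4 - 1 = t + 3 := by omega
  rw [e1] at h6
  have h7 : (t + 4) ^ 3 < p := by omega
  rcases hp.dvd_mul.mp h6 with h | h
  · have := Nat.le_of_dvd (by positivity) (hp.dvd_of_dvd_pow h)
    nlinarith
  rcases hp.dvd_mul.mp h with h | h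
  · have := Nat.le_of_dvd (by positivity) h
    nlinarith
  rcases hp.dvd_mul.mp h with h | h
  · have := Nat.le_of_dvd (by positivity) (hp.dvd_of_dvd_pow h)
    nlinarith
  · have := Nat.le_of_dvd (by positivity) h
    nlinarith

/-- The three kinds of simple groups with a strongly embedded subgroup. -/
theorem conclusion {G : Type*} [Group G] [Finite G] {p : ℕ} (hp : p.Prime) (hp5 : 5 ≤ p)
    (h2 : (Nat.card G).factorization 2 = (p - 1).factorization 2) (hdvd : p ∣ Nat.card G)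
    (h : (∃ (F : Type) (_ : Field F) (_ : Fintype F), CharP F 2 ∧ 4 ≤ Fintype.card F ∧
        Nonempty (G ≃* Matrix.ProjectiveSpecialLinearGroup (Fin 2) F)) ∨ Cfsg.IsSuzuki G ∨
      (∃ (F : Type) (_ : Field F) (_ : Fintype F) (q : ℕ), Fintype.card F = q ^ 2 ∧ Even q ∧ 4 ≤ q ∧
        Nonempty (G ≃* Cfsg.PSU 3 F q))) :
    ∃ (a : ℕ) (F : Type) (_ : Field F) (_ : Fintype F), p = 2 ^ a + 1 ∧ Fintype.card F = 2 ^ a ∧
      Nonempty (G ≃* Matrix.SpecialLinearGroup (Fin 2) F) := by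
  rcases h with ⟨F, _, _, hchar, h4, ⟨e⟩⟩ | ⟨-, m, hm, hcard⟩ | ⟨F, _, _, q, hF, hq, h4, ⟨e⟩⟩
  · obtain ⟨n, -, hn⟩ := FiniteField.card F 2
    have heven : Even (Fintype.card F) := by
      rw [hn]
      exact (Nat.even_pow.mpr ⟨even_two, n.pos.ne'⟩)
    have hcard := Cfsg.Agent.SmallSimple.PSLTwoPart.card_psl_two_even heven
    rw [← Nat.card_congr e.toEquiv, hn] at hcard
    rw [hcard] at h2 hdvd
    obtain ⟨e'⟩ := Cfsg.Agent.WeakTI.PslTwo.nonempty_equiv (F := F)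
    exact ⟨n, F, inferInstance, inferInstance, psl_arith hp hp5 n.pos h2 hdvd, hn, ⟨e.trans e'.symm⟩⟩
  · exact absurd trivial (fun _ => suzuki_arith hp hp5 hm hcard h2 hdvd)
  · exfalso
    have hF2 : Fintype.card F ≠ 0 := Fintype.card_ne_zero
    obtain ⟨r, hr⟩ := CharP.exists F
    obtain ⟨n, hrp, hn⟩ := FiniteField.card F r
    have hr2 : r = 2 := by
      have h5 : 2 ∣ r ^ (n : ℕ) := by
        rw [← hn, hF]
        exact (even_iff_two_dvd.mp hq).trans (dvd_pow_self q two_ne_zero)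
      exact ((Nat.prime_dvd_prime_iff_eq Nat.prime_two hrp).mp (Nat.prime_two.dvd_of_dvd_pow h5)).symm
    have h5 : ∃ k, q = 2 ^ k := by
      have h6 : q ∣ 2 ^ (n : ℕ) := by
        rw [← hr2, ← hn, hF]
        exact dvd_pow_self q two_ne_zero
      obtain ⟨k, -, hk⟩ := (Nat.dvd_prime_pow Nat.prime_two).mp h6
      exact ⟨k, hk⟩
    obtain ⟨k, rfl⟩ := h5
    have hk2 : 2 ≤ k := by
      by_contra hcon
      have : 2 ^ k ≤ 2 ^ 1 := Nat.pow_le_pow_right (by norm_num) (by omega)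
      omega
    obtain ⟨t, ht⟩ : ∃ t, 2 ^ k = t + 1 := ⟨2 ^ k - 1, by omega⟩
    have hcard := Cfsg.Agent.HKS.EndOrd.card_psu_three (F := F) (t := t) (by rw [hF, ht])
    rw [← ht, ← Nat.card_congr e.toEquiv] at hcard
    refine psu_arith hp hp5 hk2 (N := Nat.card G) ?_ h2 hdvd
    have e1 : 2 ^ k - 1 = t := by omega
    have e2 : t + 2 = 2 ^ k + 1 := by omega
    rw [e2] at hcard
    rw [e1]
    exact hcard

end Cfsg.Agent.H656.BenderArith
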