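import Mathlib
import Cfsg.Prelude.Def_Blocks
import Cfsg.Agent.H593.D1Block3

/-!
# The structure of a block with a Sylow subgroup of order `p`, with the values

A variant of `H593.D1Block3.structure_thm` which also records the sums of the weights and the values
of the coefficient functions.
-/

set_option autoImplicit false
set_option linter.unusedSectionVars false
set_option linter.unusedVariables false

namespace Cfsg.Agent.H656.PM2Struct

open Cfsg ZMod
open scoped ComplexConjugate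
open Cfsg.Agent.Blocks.Local
open Cfsg.Agent.Blocks.Basic
open Cfsg.Agent.Blocks.CyclicGroup
open Cfsg.Agent.H593
open Cfsg.Agent.H593.D1Local
open Cfsg.Agent.H593.D1Char
open Cfsg.Agent.H593.D1Sec
open Cfsg.Agent.H593.D1Gram
open Cfsg.Agent.H593.D1Block
open Cfsg.Agent.H593.D1Block2
open Cfsg.Agent.H593.D1Block3

/-- Parseval's identity. -/
theorem parseval {p : ℕ} [hp : Fact p.Prime] (A : (ZMod p)ˣ → ℂ) (f : ZMod p → ℂ)
    (hf : ∀ m : ZMod p, m ≠ 0 → f m = ∑ i : (ZMod p)ˣ, A i * (stdAddChar ((i : ZMod p) * m) : ℂ)) :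
    ∑ m : (ZMod p)ˣ, f (m : ZMod p) * conj (f (m : ZMod p)) =
      p * ∑ i : (ZMod p)ˣ, A i * conj (A i) - (∑ i : (ZMod p)ˣ, A i) * conj (∑ i : (ZMod p)ˣ, A i) := by
  classical
  let F : ZMod p → ℂ := fun m => ∑ i : (ZMod p)ˣ, A i * (stdAddChar ((i : ZMod p) * m) : ℂ)
  have h1 : ∀ m : (ZMod p)ˣ, f (m : ZMod p) * conj (f (m : ZMod p)) =
      F (m : ZMod p) * conj (F (m : ZMod p)) := by
    intro m
    rw [hf _ (Units.ne_zero m)]
  rw [Finset.sum_congr rfl fun m _ => h1 m,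
    D1Abs.sum_units_eq (fun m : ZMod p => F m * conj (F m))]
  congr 1
  · have h2 : ∀ m : ZMod p, F m * conj (F m) = ∑ i : (ZMod p)ˣ, ∑ j : (ZMod p)ˣ,
        (A i * conj (A j)) * (stdAddChar (m * ((i : ZMod p) - (j : ZMod p))) : ℂ) := by
      intro m
      show (∑ i : (ZMod p)ˣ, A i * (stdAddChar ((i : ZMod p) * m) : ℂ)) *
        conj (∑ i : (ZMod p)ˣ, A i * (stdAddChar ((i : ZMod p) * m) : ℂ)) = _
      rw [map_sum, Finset.sum_mul_sum]
      refine Finset.sum_congr rfl fun i _ => Finset.sum_congr rfl fun j _ => ?_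
      rw [map_mul (starRingEnd ℂ), Cfsg.Agent.Blocks.CyclicGram.conj_std, mul_sub, sub_eq_add_neg,
        AddChar.map_add_eq_mul, mul_comm m (i : ZMod p), mul_comm m (j : ZMod p)]
      ring
    rw [Finset.sum_congr rfl fun m _ => h2 m, Finset.sum_comm, Finset.mul_sum]
    refine Finset.sum_congr rfl fun i _ => ?_
    rw [Finset.sum_comm, Finset.sum_eq_single i]
    · rw [← Finset.mul_sum, Cfsg.Agent.Blocks.CyclicGram.sum_std, if_pos (sub_self _)]
      ring
    · intro j _ hj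
      rw [← Finset.mul_sum, Cfsg.Agent.Blocks.CyclicGram.sum_std, if_neg, mul_zero]
      intro h3
      exact hj (Units.ext (sub_eq_zero.1 h3).symm)
    · intro h3
      exact absurd (Finset.mem_univ _) h3
  · have h2 : F 0 = ∑ i : (ZMod p)ˣ, A i := by
      refine Finset.sum_congr rfl fun i _ => ?_
      rw [mul_zero, AddChar.map_zero_eq_one, mul_one]
    rw [h2]

variable {G : Type*} [Group G] [Fintype G] {p : ℕ} [hp : Fact p.Prime] {P K : Subgroup G}
  (h : Loc p P K)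
  {M : Ideal AlgInt} [hMp : M.IsPrime] (hM : IsPModular p M) {B : Set (IrrCharacter G)}
  (hB : IsPBlock M B) (hBP : IsDefectGroup p M B P) {θ : IrrCharacter (LL P K)}
  (hind : IsInducedBlock M (Subgroup.centralizer (P : Set G))
      (blockOf M (infl h θ : Subgroup.centralizer (P : Set G) → ℂ)) B)
  {z : G} (hz : orderOf z = p) (hzP : z ∈ P)

include hM hB hBP hind hz hzP

open scoped Classical in
/-- The structure of the block. -/
theorem structure_thm' [Fintype K] [Fintype (LL P K)] [Fintype B]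
    (hG : (Nat.card G).factorization p = 1)
    (hlow : ∀ ψ : K →* (ZMod p)ˣ, (∀ (k : K) (m : ZMod p),
      (k : G) * u z m * (k : G)⁻¹ = u z ((ψ k : ZMod p) * m)) →
      (LL P K).relIndex (stab h θ) + Nat.card ((ZMod p)ˣ ⧸ (stab h θ).map ψ) ≤ Nat.card B) :
    ∃ (Ω : Type) (_ : Fintype Ω) (_ : Nonempty Ω) (Wt : Ω → ZMod p → ℂ) (a : B → Ω → ℤ),
      (LL P K).relIndex (stab h θ) * Fintype.card Ω = p - 1 ∧
      Fintype.card B = (LL P K).relIndex (stab h θ) + Fintype.card Ω ∧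
      (∀ χ, (∀ i, a χ i = 1) ∨ (∀ i, a χ i = -1) ∨
        (∃ i₀, ∀ i, a χ i = if i = i₀ then 1 else 0) ∨
        (∃ i₀, ∀ i, a χ i = if i = i₀ then -1 else 0)) ∧
      (∀ i j, ∑ χ, a χ i * a χ j =
        ((LL P K).relIndex (stab h θ) : ℤ) + if i = j then 1 else 0) ∧
      (∀ (χ : B) (ω : Ω), (a χ ω : ℂ) = ∑ m : ZMod p, Wt ω m *
        conj (DD (θ : LL P K → ℂ) ((χ : IrrCharacter G) : G → ℂ) (u z m))) ∧
      (∀ ω, Wt ω 0 = 0) ∧
      (∀ ω, ∑ m : ZMod p, Wt ω m = -1) ∧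
      (∀ (χ : B) (c : ℤ), (∀ ω, a χ ω = c) → ∀ m : ZMod p, m ≠ 0 →
        DD (θ : LL P K → ℂ) ((χ : IrrCharacter G) : G → ℂ) (u z m) = -(c : ℂ)) ∧
      (∀ χ : B, ∑ m : (ZMod p)ˣ, DD (θ : LL P K → ℂ) ((χ : IrrCharacter G) : G → ℂ)
        (u z (m : ZMod p)) = -(((LL P K).relIndex (stab h θ) : ℂ) * ∑ ω, (a χ ω : ℂ))) ∧
      (∀ χ : B, ∑ m : (ZMod p)ˣ, DD (θ : LL P K → ℂ) ((χ : IrrCharacter G) : G → ℂ)
        (u z (m : ZMod p)) * conj (DD (θ : LL P K → ℂ) ((χ : IrrCharacter G) : G → ℂ)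
        (u z (m : ZMod p))) = p * (((LL P K).relIndex (stab h θ) : ℂ) * ∑ ω, (a χ ω : ℂ) ^ 2) -
          (((LL P K).relIndex (stab h θ) : ℂ) * ∑ ω, (a χ ω : ℂ)) ^ 2) := by
  classical
  obtain ⟨ψ, hψ⟩ := exists_hom h hz hzP
  have hcardH := card_map h hz hzP hψ (stab h θ)
  have hlow' := hlow ψ hψ
  set H := (stab h θ).map ψ with hH
  have : Fintype ((ZMod p)ˣ ⧸ H) := Fintype.ofFinite _
  have hp0 : (p : ℂ) ≠ 0 := Nat.cast_ne_zero.2 hp.out.ne_zero
  let f : B → ZMod p → ℂ := fun χ m =>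
    DD (θ : LL P K → ℂ) ((χ : IrrCharacter G) : G → ℂ) (u z m)
  have hex : ∀ (χ : B) (i : ZMod p), ∃ n : ℤ,
      (p : ℂ)⁻¹ * ∑ m : ZMod p, f χ m * (stdAddChar (-(i * m)) : ℂ) = n := by
    intro χ i
    obtain ⟨n, hn⟩ := exists_mul h hz hzP θ (χ : IrrCharacter G) i
    exact ⟨n, by rw [hn]; push_cast; rfl⟩
  choose mul hmul using hex
  have hu1 : ∀ m : ZMod p, m ≠ 0 → u z m ≠ 1 := fun m hm h => hm ((u_eq_one_iff hz).1 h)
  have huP := u_mem_P h hz hzP
  have hconj : ∀ (χ : B) (m n : ZMod p), conj (f χ m * conj (f χ n)) =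
      f χ n * conj (f χ m) := by
    intro χ m n
    rw [map_mul, Complex.conj_conj, mul_comm]
  obtain ⟨a, h1, h2, h3, h4, h5, h6⟩ := D1Abs.abs_structure H f mul hmul
    (fun m n hm hn hmn => by
      obtain ⟨k, hk, hk2⟩ := (rel_iff h hz hzP hψ (stab h θ) m n).2 hmn
      have hg := gramB_eq h hM hB hind (huP m) (hu1 m hm) (huP n) ⟨k, hk, hk2⟩
      have hg' := congrArg conj hg
      rw [map_sum, Complex.conj_natCast] at hg'
      rw [← hg']
      exact Finset.sum_congr rfl fun χ _ => (hconj χ n m).symm)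
    (fun m n hm hn hmn => by
      have hmn' := fun hh => hmn ((rel_iff h hz hzP hψ (stab h θ) m n).1 hh)
      have hg := gramB_ne h hM hB hind (huP m) (hu1 m hm) (huP n) hmn'
      have hg' := congrArg conj hg
      rw [map_sum, map_zero] at hg'
      rw [← hg']
      exact Finset.sum_congr rfl fun χ _ => (hconj χ n m).symm)
    (fun χ c hc m hm => by
      obtain ⟨k, hk, rfl⟩ := hc
      show DD (θ : LL P K → ℂ) ((χ : IrrCharacter G) : G → ℂ) (u z _) = _
      rw [← hψ, ← DD_cj h k θ (χ : IrrCharacter G).2, (mem_stab h).1 hk])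
    (fun χ => exists_DD_ne h hM hB hBP hind hz hzP hG χ.2)
    (by rw [hcardH]; exact hlow')
  rw [hcardH] at h1 h2 h4 h6
  refine ⟨(ZMod p)ˣ ⧸ H, inferInstance, ⟨QuotientGroup.mk 1⟩, fun ω m => (p : ℂ)⁻¹ *
    ((stdAddChar (((ω.out : (ZMod p)ˣ) : ZMod p) * m) : ℂ) - 1), a, ?_, ?_, ?_, ?_, ?_, ?_, ?_, ?_, ?_,
    ?_⟩
  · rw [← Nat.card_eq_fintype_card]; exact h1
  · rw [← Nat.card_eq_fintype_card, h2, Nat.card_eq_fintype_card]
  · convert h3
  · convert h4
  · intro χ ω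
    have h7 := Cfsg.Agent.H593.CyclicSplit.inversion_units
      (fun i : (ZMod p)ˣ => (a χ (QuotientGroup.mk i) : ℂ)) (f χ) (fun m hm => h5 χ m hm) ω.out
    simp only [QuotientGroup.out_eq'] at h7
    have h8 := congrArg conj h7
    simp only [map_mul, map_sum, map_inv₀, map_natCast, map_intCast, map_sub, map_one,
        Cfsg.Agent.Blocks.CyclicGram.conj_std, neg_neg] at h8
    rw [h8, Finset.mul_sum]
    refine Finset.sum_congr rfl fun m _ => ?_
    ring
  · intro ω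
    show (p : ℂ)⁻¹ * ((stdAddChar (((ω.out : (ZMod p)ˣ) : ZMod p) * 0) : ℂ) - 1) = 0
    rw [mul_zero, AddChar.map_zero_eq_one, sub_self, mul_zero]
  · intro ω
    show ∑ m : ZMod p, (p : ℂ)⁻¹ *
      ((stdAddChar (((ω.out : (ZMod p)ˣ) : ZMod p) * m) : ℂ) - 1) = -1
    rw [← Finset.mul_sum, Finset.sum_sub_distrib]
    have h7 : ∑ m : ZMod p, (stdAddChar (((ω.out : (ZMod p)ˣ) : ZMod p) * m) : ℂ) = 0 := by
      have h8 := Cfsg.Agent.Blocks.CyclicGram.sum_std (p := p) (((ω.out : (ZMod p)ˣ) : ZMod p))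
      rw [if_neg (Units.ne_zero _)] at h8
      rw [← h8]
      exact Finset.sum_congr rfl fun m _ => by rw [mul_comm]
    rw [h7, Finset.sum_const, Finset.card_univ, ZMod.card, nsmul_eq_mul, mul_one, zero_sub]
    field_simp
  · intro χ c hc m hm
    have h7 := h5 χ m hm
    show f χ m = _
    rw [h7]
    simp only [hc]
    rw [← Finset.mul_sum, D1Abs.sum_std_units hm]
    ring
  · intro χ
    exact h6 χ
  · intro χ
    have h7 := parseval (fun i : (ZMod p)ˣ => (a χ (QuotientGroup.mk i) : ℂ)) (f χ)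
      (fun m hm => h5 χ m hm)
    have h8 : ∀ i : (ZMod p)ˣ, (a χ (QuotientGroup.mk i) : ℂ) *
        conj (a χ (QuotientGroup.mk i) : ℂ) = (a χ (QuotientGroup.mk i) : ℂ) ^ 2 := by
      intro i
      rw [map_intCast]
      ring
    rw [Finset.sum_congr rfl fun i _ => h8 i, D1Abs.sum_fiber H (fun ω => (a χ ω : ℂ) ^ 2),
      D1Abs.sum_fiber H (fun ω => (a χ ω : ℂ)), hcardH, nsmul_eq_mul, nsmul_eq_mul] at h7
    have h9 : conj (((LL P K).relIndex (stab h θ) : ℂ) * ∑ ω, (a χ ω : ℂ)) =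
        ((LL P K).relIndex (stab h θ) : ℂ) * ∑ ω, (a χ ω : ℂ) := by
      simp only [map_mul, map_sum, map_intCast, map_natCast]
    rw [h9, ← pow_two] at h7
    exact h7

end Cfsg.Agent.H656.PM2Struct
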