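import Mathlib
import Cfsg.Prelude.Def_Blocks
import Cfsg.Agent.Blocks.ExistsModular
import Cfsg.Agent.S0953
import Cfsg.Agent.H593.D1Lower

/-!
# Characters of degree less than `p` of a group with a Sylow subgroup of order `p`

`P` is a Sylow `p`-subgroup of order `p`, `K` a complement of `P` in its normalizer and
`L = C_K(P)`. If `χ` is an irreducible character of degree less than `p`, then the restriction of `χ`
to `L` is a multiple of the sum of the conjugates of a character `θ` of `L`.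
-/

set_option autoImplicit false
set_option linter.unusedSectionVars false
set_option linter.unusedVariables false

namespace Cfsg.Agent.H656.PM2Local

open Cfsg ZMod
open scoped ComplexConjugate
open Cfsg.Agent.Blocks.Local
open Cfsg.Agent.Blocks.Basic
open Cfsg.Agent.Blocks.CyclicGroup
open Cfsg.Agent.H593.D1Local
open Cfsg.Agent.H593.D1Char
open Cfsg.Agent.H593.D1Sec
open Cfsg.Agent.H593.D1Gram
open Cfsg.Agent.H593.D1Block
open Cfsg.Agent.H593.D1Block2
open Cfsg.Agent.Characters.Core (isIrr_isCharacter isCharacter_apply_inv isIrr_comp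
  isCharacter_comp classInner_irr_self classInner_irr_ne isIrr_iff_classInner_self
  isIrr_isClassFunction finite_irr classFunction_eq_sum isCharacter_mul classInner_isNat)

variable {G : Type*} [Group G] [Fintype G] {p : ℕ} [hp : Fact p.Prime] {K : Subgroup G}

/-- The expansion of the restriction to `L`. -/
theorem apply_eq_sum {P : Subgroup G} (h : Loc p P K) [Fintype (LL P K)]
    [Fintype (IrrCharacter (LL P K))] (χ : IrrCharacter G) (l : LL P K) :
    (χ : G → ℂ) ((l : K) : G) = ∑ θ' : IrrCharacter (LL P K),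
      DD (θ' : LL P K → ℂ) (χ : G → ℂ) 1 * (θ' : LL P K → ℂ) l := by
  have hcl : IsClassFunction (LL P K) (fun l : LL P K => (χ : G → ℂ) (1 * ((l : K) : G))) := by
    intro c d
    show (χ : G → ℂ) (1 * (((d : K) : G) * ((c : K) : G) * ((d : K) : G)⁻¹)) =
      (χ : G → ℂ) (1 * ((c : K) : G))
    rw [one_mul, one_mul, irr_conj χ.2]
  have h3 := congrFun (classFunction_eq_sum hcl) l
  rw [Finset.sum_apply] at h3
  rw [one_mul] at h3
  exact h3

/-- The multiplicities in the restriction to `L`. -/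
theorem exists_nat {P : Subgroup G} (h : Loc p P K) [Fintype (LL P K)] (χ : IrrCharacter G)
    (θ : IrrCharacter (LL P K)) :
    ∃ n : ℕ, DD (θ : LL P K → ℂ) (χ : G → ℂ) 1 = n := by
  obtain ⟨n, hn⟩ := classInner_isNat
    (isCharacter_comp (K.subtype.comp (LL P K).subtype) (isIrr_isCharacter χ.2))
    (isIrr_isCharacter θ.2)
  refine ⟨n, ?_⟩
  rw [← hn, DD_def, Cfsg.Agent.Characters.Core.classInner_def]
  congr 1
  refine Finset.sum_congr rfl fun l _ => ?_
  rw [one_mul]
  rfl

/-- **The local data of a character of degree less than `p`.** -/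
theorem exists_theta [Fintype K] (P : Sylow p G) (h : Loc p (P : Subgroup G) K)
    [Fintype (LL (P : Subgroup G) K)] (χ : IrrCharacter G) (hdeg : charDegree (χ : G → ℂ) < p) :
    ∃ (θ : IrrCharacter (LL (P : Subgroup G) K)) (H : ℕ),
      charDegree (χ : G → ℂ) =
        H * ((stab h θ).index * charDegree (θ : LL (P : Subgroup G) K → ℂ)) ∧
      (∀ l : LL (P : Subgroup G) K, (Nat.card (stab h θ) : ℂ) * (χ : G → ℂ) ((l : K) : G) =
        H * ∑ k : K, (θ : LL (P : Subgroup G) K → ℂ) ⟨k * l * k⁻¹, h.normal.conj_mem l l.2 k⟩) ∧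
      ∃ (ε : ℤ) (n : ℤ), (ε = 1 ∨ ε = -1) ∧
        ((charDegree (χ : G → ℂ) : ℤ) = p * n + ε * ((stab h θ).index *
          charDegree (θ : LL (P : Subgroup G) K → ℂ)) ∨
        (charDegree (χ : G → ℂ) : ℤ) = p * n + ε *
          (((LL (P : Subgroup G) K).relIndex (stab h θ) : ℤ) * ((stab h θ).index *
          charDegree (θ : LL (P : Subgroup G) K → ℂ)))) := by
  classical
  have := finite_irr (G := LL (P : Subgroup G) K)
  have := Fintype.ofFinite (IrrCharacter (LL (P : Subgroup G) K))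
  have := finite_irr (G := G)
  have := Fintype.ofFinite (IrrCharacter G)
  obtain ⟨M, hM⟩ := Cfsg.Agent.Blocks.ExistsModular.exists_isPModular (Fact.out : p.Prime)
  have hMp : M.IsPrime := hM.2.1.isPrime
  obtain ⟨B, hBdef⟩ : ∃ B, B = blockOf M (χ : G → ℂ) := ⟨_, rfl⟩
  have hB : IsPBlock M B := ⟨χ, hBdef⟩
  have hχ : χ ∈ B := by rw [hBdef]; exact mem_blockOf_self χ
  have : Fintype B := Fintype.ofFinite _
  have hdpos := charDegree_pos χ.2
  have hBP : IsDefectGroup p M B (P : Subgroup G) :=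
    Cfsg.Agent.S0953.isDefectGroup_of_degree hM P hB hχ (fun hdvd =>
      absurd (Nat.le_of_dvd hdpos hdvd) (by omega))
  have hP : Nat.card (P : Subgroup G) = p := h.card
  have hG : (Nat.card G).factorization p = 1 := by
    have h1 := (P.card_eq_multiplicity).symm.trans hP
    exact Nat.pow_right_injective hp.out.two_le (by simpa using h1)
  obtain ⟨z, hzP, hz1⟩ : ∃ z ∈ (P : Subgroup G), z ≠ 1 := by
    by_contra hcon
    push Not at hcon
    have : (P : Subgroup G) = ⊥ := (Subgroup.eq_bot_iff_forall _).2 hcon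
    have h1 := h.card
    rw [this, Subgroup.card_bot] at h1
    exact hp.out.one_lt.ne h1
  have hz : orderOf z = p := h.mem_pow hzP hz1
  have hu1 : ∀ m : ZMod p, m ≠ 0 → u z m ≠ 1 := fun m hm h => hm ((u_eq_one_iff hz).1 h)
  have huP : ∀ m : ZMod p, u z m ∈ (P : Subgroup G) := fun m => u_mem_P h hz hzP m
  obtain ⟨m₀, hm₀, hne₀⟩ := exists_apply_ne h hM hB hBP hG hz hχ
  -- the character `θ`
  obtain ⟨θ, hθ⟩ : ∃ θ : IrrCharacter (LL (P : Subgroup G) K),
      DD (θ : LL (P : Subgroup G) K → ℂ) (χ : G → ℂ) (u z m₀) ≠ 0 := by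
    by_contra hcon
    push Not at hcon
    obtain ⟨θ₀⟩ : Nonempty (IrrCharacter (LL (P : Subgroup G) K)) :=
      ⟨⟨1, Cfsg.Agent.Characters.Core.isIrr_one⟩⟩
    have h1 := apply_mul_eq h θ₀ (χ := χ) (huP m₀) (fun θ' hθ' => absurd (hcon θ') hθ') 1
    have h2 : u z m₀ * (((1 : LL (P : Subgroup G) K) : K) : G) = u z m₀ := by simp
    rw [h2] at h1
    have h3 : ∀ k : K, DD (θ₀ : LL (P : Subgroup G) K → ℂ) (χ : G → ℂ)
        ((k : G) * u z m₀ * (k : G)⁻¹) = 0 := by
      intro k
      rw [← DD_cj h k θ₀ χ.2]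
      exact hcon _
    simp only [h3, zero_mul, Finset.sum_const_zero] at h1
    exact mul_ne_zero (by exact_mod_cast Nat.card_pos.ne') hne₀ h1
  have hind := induced_of_ne h hM (huP m₀) (hu1 m₀ hm₀) hB hχ hθ
  -- multiplicities
  choose m hm using fun θ' => exists_nat h χ θ'
  have hsum1 : (charDegree (χ : G → ℂ)) = ∑ θ', m θ' * charDegree (θ' : LL (P : Subgroup G) K → ℂ) := by
    have h1 := apply_eq_sum h χ 1
    have h2 : (((1 : LL (P : Subgroup G) K) : K) : G) = 1 := rfl
    rw [h2, irr_one_eq_charDegree χ.2] at h1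
    have h3 : ∀ θ' : IrrCharacter (LL (P : Subgroup G) K),
        DD (θ' : LL (P : Subgroup G) K → ℂ) (χ : G → ℂ) 1 * (θ' : LL (P : Subgroup G) K → ℂ) 1 =
          ((m θ' * charDegree (θ' : LL (P : Subgroup G) K → ℂ) : ℕ) : ℂ) := by
      intro θ'
      rw [hm, irr_one_eq_charDegree θ'.2]
      push_cast
      rfl
    rw [Finset.sum_congr rfl fun θ' _ => h3 θ'] at h1
    exact_mod_cast h1
  have hnconj : ∀ θ' : IrrCharacter (LL (P : Subgroup G) K),
      DD (θ' : LL (P : Subgroup G) K → ℂ) (χ : G → ℂ) 1 ≠ 0 → ∃ k, θ' = cj h k θ := by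
    intro θ' hne
    by_contra hcon
    apply hne
    have h1 : ∀ x ∈ (P : Subgroup G), x ≠ 1 → DD (θ' : LL (P : Subgroup G) K → ℂ) (χ : G → ℂ) x = 0 := by
      intro x hx hx1
      by_contra h2
      exact hcon (exists_cj h hM hB hBP hind hχ hx hx1 θ' h2)
    obtain ⟨n, hn⟩ := exists_mul h hz hzP θ' χ 0
    rw [Finset.sum_eq_single (0 : ZMod p)] at hn
    · rw [u_zero, zero_mul, neg_zero, AddChar.map_zero_eq_one, mul_one, hm] at hn
      have hp0 : (p : ℂ) ≠ 0 := Nat.cast_ne_zero.2 hp.out.ne_zero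
      have h2 : (m θ' : ℂ) = p * n := by
        rw [← hn]
        field_simp
      have h3 : m θ' = p * n := by exact_mod_cast h2
      have h4 : m θ' * charDegree (θ' : LL (P : Subgroup G) K → ℂ) ≤ charDegree (χ : G → ℂ) := by
        rw [hsum1]
        exact Finset.single_le_sum (f := fun θ' => m θ' * charDegree (θ' : LL (P : Subgroup G) K → ℂ))
          (fun _ _ => Nat.zero_le _) (Finset.mem_univ θ')
      have h5 := charDegree_pos θ'.2
      rcases Nat.eq_zero_or_pos n with h6 | h6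
      · rw [hm, h3, h6]
        simp
      · exfalso
        have h7 : p ≤ m θ' := by
          rw [h3]
          exact Nat.le_mul_of_pos_right _ h6
        have h8 : m θ' ≤ m θ' * charDegree (θ' : LL (P : Subgroup G) K → ℂ) :=
          Nat.le_mul_of_pos_right _ h5
        omega
    · intro i _ hi
      rw [h1 _ (huP i) (hu1 i hi), zero_mul]
    · intro h2
      exact absurd (Finset.mem_univ _) h2
  have hmain : ∀ l : LL (P : Subgroup G) K, (Nat.card (stab h θ) : ℂ) * (χ : G → ℂ) ((l : K) : G) =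
        m θ * ∑ k : K, (θ : LL (P : Subgroup G) K → ℂ) ⟨k * l * k⁻¹, h.normal.conj_mem l l.2 k⟩ := by
    intro l
    have h1 := apply_mul_eq h θ (χ := χ) (P : Subgroup G).one_mem hnconj l
    rw [one_mul] at h1
    rw [h1, Finset.mul_sum]
    refine Finset.sum_congr rfl fun k _ => ?_
    rw [mul_one, mul_inv_cancel, hm]
  refine ⟨θ, m θ, ?_, hmain, ?_⟩
  · have h1 := hmain 1
    have h2 : (((1 : LL (P : Subgroup G) K) : K) : G) = 1 := rfl
    have h3 : ∀ k : K, (⟨k * ((1 : LL (P : Subgroup G) K) : K) * k⁻¹,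
        h.normal.conj_mem _ (1 : LL (P : Subgroup G) K).2 k⟩ : LL (P : Subgroup G) K) = 1 :=
      fun k => Subtype.ext (by simp)
    simp only [h3] at h1
    rw [h2, irr_one_eq_charDegree χ.2, irr_one_eq_charDegree θ.2, Finset.sum_const,
      Finset.card_univ, nsmul_eq_mul, ← Nat.card_eq_fintype_card] at h1
    have h4 : Nat.card (stab h θ) * charDegree (χ : G → ℂ) =
        m θ * (Nat.card K * charDegree (θ : LL (P : Subgroup G) K → ℂ)) := by exact_mod_cast h1
    rw [← Subgroup.card_mul_index (stab h θ)] at h4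
    apply Nat.eq_of_mul_eq_mul_left (Nat.card_pos (α := stab h θ))
    rw [h4]
    ring
  · obtain ⟨Ω, hΩ1, hΩ2, Wt, a, hmul, hcard, hrows, hgram, hWt, hWt0, hdeg'⟩ :=
      Cfsg.Agent.H593.D1Block3.structure_thm h hM hB hBP hind hz hzP hG
        (fun ψ hψ => Cfsg.Agent.H593.D1Lower.lower h hM hB hind hz hzP ψ hψ)
    obtain ⟨n, hn⟩ := hdeg' ⟨χ, hχ⟩
    have hmul' : ((LL (P : Subgroup G) K).relIndex (stab h θ) : ℤ) * Fintype.card Ω = p - 1 := by
      have h2 : (((LL (P : Subgroup G) K).relIndex (stab h θ) * Fintype.card Ω : ℕ) : ℤ) =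
          ((p - 1 : ℕ) : ℤ) := by rw [hmul]
      rw [Nat.cast_sub hp.out.one_lt.le] at h2
      push_cast at h2
      exact h2
    rcases hrows ⟨χ, hχ⟩ with h1 | h1 | ⟨i₀, h1⟩ | ⟨i₀, h1⟩
    · simp only [h1] at hn
      rw [Finset.sum_const, Finset.card_univ, nsmul_eq_mul, mul_one] at hn
      refine ⟨-1, n + (stab h θ).index * charDegree (θ : LL (P : Subgroup G) K → ℂ), Or.inr rfl,
        Or.inl ?_⟩
      rw [hn]
      linear_combination ((charDegree (θ : LL (P : Subgroup G) K → ℂ) : ℤ) * (stab h θ).index) * hmul'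
    · simp only [h1] at hn
      rw [Finset.sum_const, Finset.card_univ, nsmul_eq_mul] at hn
      refine ⟨1, n - (stab h θ).index * charDegree (θ : LL (P : Subgroup G) K → ℂ), Or.inl rfl,
        Or.inl ?_⟩
      rw [hn]
      linear_combination -((charDegree (θ : LL (P : Subgroup G) K → ℂ) : ℤ) * (stab h θ).index) *
        hmul'
    · simp only [h1] at hn
      rw [Finset.sum_ite_eq' Finset.univ i₀, if_pos (Finset.mem_univ _)] at hn
      refine ⟨1, n, Or.inl rfl, Or.inr ?_⟩
      rw [hn]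
      ring
    · simp only [h1] at hn
      rw [Finset.sum_ite_eq' Finset.univ i₀, if_pos (Finset.mem_univ _)] at hn
      refine ⟨-1, n, Or.inr rfl, Or.inr ?_⟩
      rw [hn]
      ring

end Cfsg.Agent.H656.PM2Local
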