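import Mathlib

/-!
# The sign of a permutation which swaps two points and is semiregular on the others
-/

set_option autoImplicit false

open Equiv Equiv.Perm

namespace Cfsg.Agent.H656.SignCycle

variable {α : Type*} [Fintype α] [DecidableEq α]

/-- A permutation swapping `a` and `b` whose powers are semiregular on the other points is odd if
`2 n` divides the number of other points. -/
theorem sign_eq (f : Perm α) {a b : α} (hab : a ≠ b) (hfa : f a = b) (hfb : f b = a) {n : ℕ}
    (hn0 : n ≠ 0) (hfn : f ^ n = 1)
    (hfree : ∀ x, x ≠ a → x ≠ b → ∀ k : ℕ, (f ^ k) x = x → n ∣ k)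
    (hn1 : n ≠ 1)
    (hcard : ∃ m, Fintype.card α = 2 * n * m + 2) : sign f = -1 := by
  obtain ⟨m, hm⟩ := hcard
  -- no fixed points
  have hsupp : f.support = Finset.univ := by
    rw [Finset.eq_univ_iff_forall]
    intro x
    rw [mem_support]
    intro hx
    by_cases hxa : x = a
    · rw [hxa, hfa] at hx
      exact hab hx.symm
    by_cases hxb : x = b
    · rw [hxb, hfb] at hx
      exact hab hx
    have h1 := hfree x hxa hxb 1 (by rw [pow_one]; exact hx)
    exact hn1 (Nat.dvd_one.mp h1)
  set C := f.cycleFactorsFinset with hC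
  have hc₀ : f.cycleOf a ∈ C := by
    rw [hC, cycleOf_mem_cycleFactorsFinset_iff, hsupp]
    exact Finset.mem_univ a
  have hfa' : f a ≠ a := by rw [hfa]; exact hab.symm
  have hsupp₀ : (f.cycleOf a).support = {a, b} := by
    ext x
    rw [mem_support_cycleOf_iff' hfa']
    simp only [Finset.mem_insert, Finset.mem_singleton]
    constructor
    · rintro ⟨k, rfl⟩
      have h2 : ∀ k : ℤ, (f ^ k) a = a ∨ (f ^ k) a = b := by
        intro k
        induction k using Int.induction_on with
        | zero => left; rfl
        | succ i ih =>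
          rw [add_comm, zpow_add, zpow_one, Perm.mul_apply]
          rcases ih with h | h
          · rw [h, hfa]; right; rfl
          · rw [h, hfb]; left; rfl
        | pred i ih =>
          rw [sub_eq_add_neg, add_comm, zpow_add, Perm.mul_apply, zpow_neg_one]
          rcases ih with h | h
          · rw [h]
            right
            rw [Perm.inv_eq_iff_eq]
            exact hfb.symm
          · rw [h]
            left
            rw [Perm.inv_eq_iff_eq]
            exact hfa.symm
      exact h2 k
    · rintro (rfl | rfl)
      · exact SameCycle.refl f _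
      · refine ⟨1, ?_⟩
        rw [zpow_one]
        exact hfa
  have hcard₀ : (f.cycleOf a).support.card = 2 := by
    rw [hsupp₀, Finset.card_pair hab]
  have hcard₁ : ∀ c ∈ C.erase (f.cycleOf a), c.support.card = n := by
    intro c hc
    rw [Finset.mem_erase] at hc
    obtain ⟨hne, hcC⟩ := hc
    have hdisj : Disjoint c (f.cycleOf a) :=
      cycleFactorsFinset_pairwise_disjoint f hcC hc₀ hne
    obtain ⟨hcyc, hcf⟩ := mem_cycleFactorsFinset_iff.mp hcC
    obtain ⟨x, hx⟩ : ∃ x, x ∈ c.support := by
      obtain ⟨x, hx, -⟩ := hcyc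
      exact ⟨x, mem_support.mpr hx⟩
    have hxab : x ∉ (f.cycleOf a).support := by
      intro h
      have h1 := hdisj.disjoint_support
      exact (Finset.disjoint_left.mp h1) hx h
    rw [hsupp₀, Finset.mem_insert, Finset.mem_singleton, not_or] at hxab
    have hpow : ∀ k : ℕ, (c ^ k) x = (f ^ k) x ∧ (c ^ k) x ∈ c.support := by
      intro k
      induction k with
      | zero => exact ⟨rfl, hx⟩
      | succ k ih =>
        have h1 : (c ^ (k + 1)) x = c ((c ^ k) x) := by
          rw [pow_succ', Perm.mul_apply]
        have h2 : (f ^ (k + 1)) x = f ((f ^ k) x) := by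
          rw [pow_succ', Perm.mul_apply]
        refine ⟨?_, ?_⟩
        · rw [h1, h2, ← ih.1]
          exact hcf _ ih.2
        · rw [h1]
          exact apply_mem_support.mpr ih.2
    have h1 : orderOf c = c.support.card := hcyc.orderOf
    have h2 : n ∣ orderOf c := by
      apply hfree x hxab.1 hxab.2
      rw [← (hpow _).1, pow_orderOf_eq_one, one_apply]
    have h3 : orderOf c ∣ n := by
      have h4 : c.support.card ∈ f.cycleType := by
        rw [cycleType_def, Multiset.mem_map]
        exact ⟨c, hcC, rfl⟩
      rw [h1]
      exact (dvd_of_mem_cycleType h4).trans (orderOf_dvd_of_pow_eq_one hfn)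
    rw [← h1]
    exact Nat.dvd_antisymm h3 h2
  have hsum : f.cycleType.sum = Fintype.card α := by
    rw [sum_cycleType, hsupp, Finset.card_univ]
  have hcc : Multiset.card f.cycleType = C.card := by
    rw [cycleType_def, Multiset.card_map]
    rfl
  have hsum2 : f.cycleType.sum = 2 + (C.card - 1) * n := by
    have h1 : f.cycleType.sum = ∑ c ∈ C, c.support.card := by
      rw [cycleType_def]
      rfl
    rw [h1, ← Finset.add_sum_erase _ _ hc₀, hcard₀, Finset.sum_congr rfl hcard₁,
      Finset.sum_const, Finset.card_erase_of_mem hc₀, smul_eq_mul]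
  have hCpos : 0 < C.card := Finset.card_pos.mpr ⟨_, hc₀⟩
  have hCm : C.card = 2 * m + 1 := by
    have h1 : (C.card - 1) * n = (2 * m) * n := by
      have : 2 * m * n = 2 * n * m := by ring
      omega
    have h2 := Nat.eq_of_mul_eq_mul_right (Nat.pos_of_ne_zero hn0) h1
    omega
  rw [sign_of_cycleType, hsum, hcc, hCm, hm]
  have h1 : 2 * n * m + 2 + (2 * m + 1) = 2 * (n * m + 1 + m) + 1 := by ring
  rw [h1, pow_succ, pow_mul]
  simp

end Cfsg.Agent.H656.SignCycle
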