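import Mathlib

/-!
# Arithmetic for primitive groups of degree `2 p`
-/

set_option autoImplicit false

namespace Cfsg.Agent.H656.TwoPArith

theorem arith {p q N c : ℕ} (hp : p.Prime) (hp5 : 5 ≤ p) (hq : IsPrimePow q) (hodd : Odd q)
    (hq3 : 3 < q) (hN : 2 * N = q * (q ^ 2 - 1))
    (hc : (q % 4 = 1 ∧ c = q - 1) ∨ (q % 4 = 3 ∧ c = q + 1))
    (hmul : N * (p - 1) = p * (p - 2) * c ^ 2) (hp2 : ¬ p ^ 2 ∣ N) (hdvd : c ∣ N) :
    p = 5 ∧ q = 5 := by
  have hpodd : p ≠ 2 := by omega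
  obtain ⟨c', hcc', hc'⟩ : ∃ c', c * c' = q ^ 2 - 1 ∧
      ((q % 4 = 1 ∧ c' = q + 1) ∨ (q % 4 = 3 ∧ c' = q - 1)) := by
    have h7 : q ^ 2 - 1 = (q + 1) * (q - 1) := by
      have := Nat.sq_sub_sq q 1
      rwa [one_pow] at this
    rcases hc with ⟨h1, rfl⟩ | ⟨h1, rfl⟩
    · exact ⟨q + 1, by rw [h7, mul_comm], Or.inl ⟨h1, rfl⟩⟩
    · exact ⟨q - 1, by rw [h7], Or.inr ⟨h1, rfl⟩⟩
  have hc0 : 0 < c := by
    rcases hc with ⟨h1, h2⟩ | ⟨h1, h2⟩ <;> omega
  have hc'0 : 0 < c' := by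
    rcases hc' with ⟨h1, h2⟩ | ⟨h1, h2⟩ <;> omega
  obtain ⟨d, hd⟩ := hdvd
  -- `d (p - 1) = p (p - 2) c`
  have h1 : d * (p - 1) = p * (p - 2) * c := by
    apply Nat.eq_of_mul_eq_mul_left hc0
    rw [← mul_assoc, ← hd, hmul]
    ring
  have h2 : q * c' = 2 * d := by
    apply Nat.eq_of_mul_eq_mul_left hc0
    calc c * (q * c') = q * (c * c') := by ring
      _ = 2 * N := by rw [hcc', hN]
      _ = c * (2 * d) := by rw [hd]; ring
  have hcop : Nat.Coprime (p - 1) (p * (p - 2)) := by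
    apply Nat.Coprime.mul_right
    · have : p = (p - 1) + 1 := by omega
      rw [this, Nat.add_sub_cancel]
      simp
    · have h3 : p - 1 = (p - 2) + 1 := by omega
      rw [h3]
      simp
  have h3 : p - 1 ∣ c := by
    apply hcop.dvd_of_dvd_mul_left
    rw [← h1]
    exact Dvd.intro_left d rfl
  obtain ⟨k, hk⟩ := h3
  have hk0 : 0 < k := by
    rcases Nat.eq_zero_or_pos k with h | h
    · rw [h, mul_zero] at hk
      omega
    · exact h
  have h4 : d = p * (p - 2) * k := by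
    have : 0 < p - 1 := by omega
    apply Nat.eq_of_mul_eq_mul_right this
    rw [h1, hk]
    ring
  have h5 : q * c' = 2 * (p * (p - 2) * k) := by rw [h2, h4]
  by_cases hpq : p ∣ q
  · -- `q = p`
    obtain ⟨r, f, hr, hf, rfl⟩ := hq
    have hr' : r.Prime := hr.nat_prime
    have hpr : p = r := (Nat.prime_dvd_prime_iff_eq hp hr').mp (hp.dvd_of_dvd_pow hpq)
    subst hpr
    have hf1 : f = 1 := by
      by_contra hf1
      apply hp2
      have h6 : p ^ 2 ∣ p ^ f := pow_dvd_pow p (by omega)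
      have h7 : p ^ 2 ∣ 2 * N := by
        rw [hN]
        exact h6.mul_right _
      exact (Nat.Coprime.pow_left 2 ((Nat.coprime_primes hp Nat.prime_two).mpr hpodd)).dvd_of_dvd_mul_left
        h7
    rw [hf1, pow_one] at h5 hc' ⊢
    have h6 : c' = 2 * (p - 2) * k := by
      apply Nat.eq_of_mul_eq_mul_left hp.pos
      rw [h5]
      ring
    have h7 : 2 * (p - 2) ≤ c' := by
      rw [h6]
      exact Nat.le_mul_of_pos_right _ hk0
    have h8 : p = 5 := by
      rcases hc' with ⟨-, h8⟩ | ⟨-, h8⟩ <;> omega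
    exact ⟨h8, h8⟩
  · exfalso
    have h6 : p ∣ c' := by
      have h7 : p ∣ q * c' := by
        rw [h5]
        exact ⟨2 * ((p - 2) * k), by ring⟩
      exact (hp.dvd_mul.mp h7).resolve_left hpq
    obtain ⟨m, hm⟩ := h6
    have h7 : q * m = 2 * ((p - 2) * k) := by
      apply Nat.eq_of_mul_eq_mul_left hp.pos
      calc p * (q * m) = q * (p * m) := by ring
        _ = q * c' := by rw [hm]
        _ = _ := by rw [h5]; ring
    have hm2 : 2 ≤ m := by
      have h8 : 2 ∣ c' := by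
        rcases hc' with ⟨h8, h9⟩ | ⟨h8, h9⟩ <;> omega
      have h9 : 2 ∣ m := by
        rw [hm] at h8
        exact (Nat.prime_two.dvd_mul.mp h8).resolve_left (fun h =>
          hpodd ((Nat.prime_dvd_prime_iff_eq Nat.prime_two hp).mp h).symm)
      apply Nat.le_of_dvd _ h9
      rcases Nat.eq_zero_or_pos m with h | h
      · rw [h, mul_zero] at hm
        omega
      · exact h
    obtain ⟨P, rfl⟩ : ∃ P, p = P + 2 := ⟨p - 2, by omega⟩
    have e1 : P + 2 - 1 = P + 1 := by omega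
    have e2 : P + 2 - 2 = P := by omega
    rw [e1] at hk
    rw [e2] at h7
    have h8 : q * m * (P + 1) = 2 * P * c := by
      rw [h7, hk]; ring
    have h9 : q * 2 * (P + 1) ≤ 2 * P * c := by
      rw [← h8]
      exact Nat.mul_le_mul_right _ (Nat.mul_le_mul_left _ hm2)
    rcases hc with ⟨h10, h11⟩ | ⟨h10, h11⟩
    · have h12 : c ≤ q := by omega
      have h13 : 2 * P * c ≤ 2 * P * q := Nat.mul_le_mul_left _ h12
      have h14 : q * 2 * (P + 1) = 2 * P * q + 2 * q := by ring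
      omega
    · rcases hc' with ⟨h12, h13⟩ | ⟨h12, h13⟩
      · omega
      · have h14 : (P + 2) * 2 ≤ q - 1 := by
          rw [← h13, hm]
          exact Nat.mul_le_mul_left _ hm2
        have h15 : 2 * P * c = 2 * P * q + 2 * P := by rw [h11]; ring
        have h16 : q * 2 * (P + 1) = 2 * P * q + 2 * q := by ring
        omega

theorem alt_seven {p : ℕ} (hp : p.Prime) (hp5 : 5 ≤ p)
    (h2 : (2520 : ℕ).factorization 2 = (p - 1).factorization 2) (hdvd : p ∣ 2520) : False := by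
  have h3 : (2 ^ 3 : ℕ) ∣ p - 1 := by
    have h4 : 3 ≤ (2520 : ℕ).factorization 2 :=
      (Nat.prime_two.pow_dvd_iff_le_factorization (by norm_num)).mp (by norm_num)
    rw [h2] at h4
    exact (pow_dvd_pow 2 h4).trans (Nat.ordProj_dvd _ 2)
  have h4 : (2520 : ℕ) = 2 ^ 3 * 3 ^ 2 * 5 * 7 := by norm_num
  rw [h4] at hdvd
  rcases hp.dvd_mul.mp hdvd with h | h
  · rcases hp.dvd_mul.mp h with h | h
    · rcases hp.dvd_mul.mp h with h | h
      · have := Nat.le_of_dvd (by norm_num) (hp.dvd_of_dvd_pow h)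
        omega
      · have := Nat.le_of_dvd (by norm_num) (hp.dvd_of_dvd_pow h)
        omega
    · have := Nat.le_of_dvd (by norm_num) h
      omega
  · have := Nat.le_of_dvd (by norm_num) h
    omega

end Cfsg.Agent.H656.TwoPArith
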