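import Mathlib
import Cfsg.Agent.S0157
import Cfsg.Agent.HKS.Pair
import Cfsg.Agent.OddOrderCharacters.Clifford
import Cfsg.Agent.H656.DihedralP
import Cfsg.Agent.H656.PermSetup

/-!
# The permutation character of a rank 3 group of degree `2 p` with Sylow `p`-normalizer of order `2 p`
-/

set_option autoImplicit false
set_option linter.style.haveILetI false
set_option linter.unusedSectionVars false

open scoped ComplexConjugate
open Cfsg Cfsg.Agent.Characters.Core

namespace Cfsg.Agent.H656.TwoPChar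

universe u v

variable {G : Type u} [Group G] [Finite G] {α : Type v} [Fintype α] [MulAction G α]

/-- The permutation character of a group of rank three. -/
theorem exists_add [MulAction.IsPretransitive G α] [Nonempty α]
    (hrank : Nat.card (Quotient (MulAction.orbitRel G (α × α))) = 3) :
    ∃ ρ σ : G → ℂ, IsIrrCharacter G ρ ∧ IsIrrCharacter G σ ∧ ρ ≠ 1 ∧ σ ≠ 1 ∧ ρ ≠ σ ∧
      ∀ g, (Nat.card (MulAction.fixedBy α g) : ℂ) = 1 + ρ g + σ g := by
  classical
  letI := Fintype.ofFinite G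
  obtain ⟨π, hπ⟩ : ∃ π : G → ℂ, π = fun g : G => (Nat.card (MulAction.fixedBy α g) : ℂ) := ⟨_, rfl⟩
  have hπc : IsCharacter G π := hπ ▸ Cfsg.Agent.S0157.isCharacter_fixedBy α
  have h11 : classInner (1 : G → ℂ) 1 = 1 := classInner_irr_self isIrr_one
  have hπ1 : classInner π 1 = 1 := by
    have := Cfsg.Agent.S0157.avg_fixedBy (G := G) α
    rw [Cfsg.Agent.S0157.card_orbits_of_pretransitive G α] at this
    rw [hπ]
    simpa [classInner] using this
  have h1π : classInner 1 π = 1 := by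
    rw [← classInner_conj_symm, hπ1, map_one]
  have hππ : classInner π π = (Nat.card (Quotient (MulAction.orbitRel G (α × α))) : ℂ) := by
    rw [← Cfsg.Agent.S0157.avg_fixedBy (G := G) (α × α), hπ]
    simp only [classInner, Cfsg.Agent.S0157.card_fixedBy_prod, Nat.cast_mul, Complex.conj_natCast]
  have hnorm : classInner (π - 1) (π - 1) = 2 := by
    rw [classInner_sub_left, classInner_sub_right, classInner_sub_right, hππ, hπ1, h1π, h11, hrank]
    norm_num
  have hchar : IsCharacter G (π - 1) :=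
    Cfsg.Agent.OddOrderCharacters.Clifford.isCharacter_sub_irr hπc isIrr_one (by
      rw [hπ1]; exact one_ne_zero)
  obtain ⟨ρ, σ, hρ, hσ, hne, heq⟩ := Cfsg.Agent.HKS.exists_add_of_norm_two hchar hnorm
  have hinner : classInner ρ 1 + classInner σ 1 = 0 := by
    rw [← classInner_add_left, ← heq, classInner_sub_left, hπ1, h11, sub_self]
  refine ⟨ρ, σ, hρ, hσ, ?_, ?_, hne, ?_⟩
  · intro h
    rw [h, h11, classInner_irr_ne hσ isIrr_one (fun h' => hne (h.trans h'.symm))] at hinner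
    norm_num at hinner
  · intro h
    rw [h, h11, classInner_irr_ne hρ isIrr_one (fun h' => hne (h'.trans h.symm))] at hinner
    norm_num at hinner
  · intro g
    have h1 := congrFun heq g
    rw [hπ] at h1
    simp only [Pi.sub_apply, Pi.one_apply, Pi.add_apply] at h1
    linear_combination h1

/-- The degree of a character vanishing on the nonidentity elements of a subgroup is divisible by
the order of the subgroup. -/
theorem dvd_degree {P : Subgroup G} {σ : G → ℂ} (hσ : IsCharacter G σ)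
    (h0 : ∀ y ∈ P, y ≠ 1 → σ y = 0) : ∃ n : ℕ, σ 1 = (Nat.card P : ℂ) * n := by
  classical
  letI : Fintype P := Fintype.ofFinite P
  obtain ⟨n, hn⟩ := classInner_isNat (isCharacter_comp P.subtype hσ) (isCharacter_one (G := P))
  refine ⟨n, ?_⟩
  rw [← hn, classInner_def, Finset.sum_eq_single (1 : P)]
  · simp only [Function.comp_apply, map_one, Pi.one_apply, mul_one]
    rw [← mul_assoc, mul_inv_cancel₀, one_mul]
    exact_mod_cast Nat.card_pos.ne'
  · intro y _ hy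
    simp only [Function.comp_apply, Subgroup.subtype_apply]
    rw [h0 y y.2 (fun h => hy (Subtype.ext h)), zero_mul]
  · intro h
    exact absurd (Finset.mem_univ _) h

variable {p : ℕ} [Fact p.Prime] {P : Sylow p G}

/-- The three constituents of the permutation character. -/
theorem main_aux (h : DihedralP.Hyp P) {ρ σ : G → ℂ} (hρ : IsIrrCharacter G ρ)
    (hσ : IsIrrCharacter G σ) (hρ1 : ρ ≠ 1) (hσ1 : σ ≠ 1)
    (hdeg : (2 * p : ℂ) = 1 + ρ 1 + σ 1)
    (h0 : ∀ y ∈ (P : Subgroup G), y ≠ 1 → 1 + ρ y + σ y = 0) :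
    ((∀ y ∈ (P : Subgroup G), y ≠ 1 → ρ y = -1) ∧ (∀ y ∈ (P : Subgroup G), y ≠ 1 → σ y = 0)) ∨
      ((∀ y ∈ (P : Subgroup G), y ≠ 1 → σ y = -1) ∧
        (∀ y ∈ (P : Subgroup G), y ≠ 1 → ρ y = 0)) := by
  obtain ⟨χ, Y, a, ε, ha, hε, hχ1, hY1, hχP, hz, hreg, hnc⟩ := h.exists_chars
  have hP' : Nat.card (P : Subgroup G) = p := h.card
  obtain ⟨y₀, hy₀, hy₀1⟩ := PermSetup.exists_mem hP'
  obtain ⟨R, hR⟩ : ∃ R : IrrCharacter G, (R : G → ℂ) = ρ := ⟨⟨ρ, hρ⟩, rfl⟩
  obtain ⟨S, hS⟩ : ∃ S : IrrCharacter G, (S : G → ℂ) = σ := ⟨⟨σ, hσ⟩, rfl⟩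
  have hp1 : ¬ p ∣ orderOf (1 : G) := by
    rw [orderOf_one]
    exact (Fact.out : p.Prime).one_lt.ne' ∘ Nat.dvd_one.mp
  -- trichotomy
  have tri : ∀ T : IrrCharacter G, (T : G → ℂ) ≠ 1 → T = χ ∨ T ∈ Y ∨
      ∀ y ∈ (P : Subgroup G), y ≠ 1 → (T : G → ℂ) y = 0 := by
    intro T hT1
    by_cases h1 : T = χ
    · exact Or.inl h1
    · by_cases h2 : T ∈ Y
      · exact Or.inr (Or.inl h2)
      · exact Or.inr (Or.inr (hz T hT1 h1 h2))
  have hχirr := χ.2
  rcases tri R (by rwa [hR]) with h1 | h1 | h1 <;> rcases tri S (by rwa [hS]) with h2 | h2 | h2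
  · -- both equal to `χ`
    exfalso
    have h3 := h0 y₀ hy₀ hy₀1
    rw [← hR, ← hS, h1, h2, hχP y₀ hy₀ hy₀1] at h3
    have h4 : (1 : ℤ) + a + a = 0 := by exact_mod_cast h3
    omega
  · exfalso
    apply hnc S h2 (-1 - a)
    intro y hy hy1
    have h3 := h0 y hy hy1
    rw [← hR, ← hS, h1, hχP y hy hy1] at h3
    linear_combination h3
  · left
    refine ⟨fun y hy hy1 => ?_, fun y hy hy1 => ?_⟩
    · have h3 := h0 y hy hy1
      rw [← hS, h2 y hy hy1] at h3
      linear_combination h3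
    · rw [← hS]
      exact h2 y hy hy1
  · exfalso
    apply hnc R h1 (-1 - a)
    intro y hy hy1
    have h3 := h0 y hy hy1
    rw [← hR, ← hS, h2, hχP y hy hy1] at h3
    linear_combination h3
  · exfalso
    have h3 := hreg R h1 1 hp1
    have h4 := hreg S h2 1 hp1
    have h5 : (ε : ℂ) ≠ 0 := by
      rcases hε with rfl | rfl <;> norm_num
    have h6 : (R : G → ℂ) 1 = (S : G → ℂ) 1 := by
      apply mul_left_cancel₀ h5
      rw [h3, h4]
    obtain ⟨n, -, hn⟩ := isIrr_apply_one hσ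
    rw [← hR, h6, hS, hn] at hdeg
    have h7 : (2 * p : ℤ) = 1 + n + n := by exact_mod_cast hdeg
    omega
  · exfalso
    apply hnc R h1 (-1)
    intro y hy hy1
    have h3 := h0 y hy hy1
    rw [← hR, ← hS, h2 y hy hy1] at h3
    linear_combination h3
  · right
    refine ⟨fun y hy hy1 => ?_, fun y hy hy1 => ?_⟩
    · have h3 := h0 y hy hy1
      rw [← hR, h1 y hy hy1] at h3
      linear_combination h3
    · rw [← hR]
      exact h1 y hy hy1
  · exfalso
    apply hnc S h2 (-1)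
    intro y hy hy1
    have h3 := h0 y hy hy1
    rw [← hR, ← hS, h1 y hy hy1] at h3
    linear_combination h3
  · exfalso
    have h3 := h0 y₀ hy₀ hy₀1
    rw [← hR, ← hS, h1 y₀ hy₀ hy₀1, h2 y₀ hy₀ hy₀1] at h3
    norm_num at h3

theorem degrees (h : DihedralP.Hyp P) {ρ σ : G → ℂ} (hρ : IsIrrCharacter G ρ)
    (hσ : IsIrrCharacter G σ) (hdeg : (2 * p : ℂ) = 1 + ρ 1 + σ 1)
    (h0 : ∀ y ∈ (P : Subgroup G), y ≠ 1 → σ y = 0) : ρ 1 = (p : ℂ) - 1 ∧ σ 1 = p := by
  have hP' : Nat.card (P : Subgroup G) = p := h.card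
  have hpp : p.Prime := Fact.out
  obtain ⟨m, hm, hm1⟩ := isIrr_apply_one hρ
  obtain ⟨n, hn, hn1⟩ := isIrr_apply_one hσ
  obtain ⟨k, hk⟩ := dvd_degree (isIrr_isCharacter hσ) h0
  rw [hP', hn1] at hk
  have hk' : n = p * k := by exact_mod_cast hk
  rw [hm1, hn1] at hdeg
  have hdeg' : 2 * p = 1 + m + n := by exact_mod_cast hdeg
  have hk1 : k = 1 := by
    have h1 : k ≠ 0 := by rintro rfl; omega
    by_contra h2
    have h3 : 2 ≤ k := by omega
    have h4 : p * 2 ≤ p * k := Nat.mul_le_mul_left p h3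
    omega
  rw [hk1, mul_one] at hk'
  rw [hk'] at hdeg' hn1
  refine ⟨?_, hn1⟩
  rw [hm1]
  have h5 : (2 * p : ℂ) = 1 + m + p := by exact_mod_cast hdeg'
  linear_combination h5 * (-1)

/-- **The permutation character.** -/
theorem main [MulAction.IsPretransitive G α] [Nonempty α] (h : DihedralP.Hyp P)
    (hrank : Nat.card (Quotient (MulAction.orbitRel G (α × α))) = 3)
    (hα : Fintype.card α = 2 * p)
    (hfix : ∀ y ∈ (P : Subgroup G), y ≠ 1 → Nat.card (MulAction.fixedBy α y) = 0) :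
    ∃ ρ σ : G → ℂ, IsIrrCharacter G ρ ∧ IsIrrCharacter G σ ∧ ρ 1 = (p : ℂ) - 1 ∧ σ 1 = p ∧
      (∀ y ∈ (P : Subgroup G), y ≠ 1 → ρ y = -1) ∧
      ∀ g, (Nat.card (MulAction.fixedBy α g) : ℂ) = 1 + ρ g + σ g := by
  obtain ⟨ρ, σ, hρ, hσ, hρ1, hσ1, -, hπ⟩ := exists_add hrank
  have hdeg : (2 * p : ℂ) = 1 + ρ 1 + σ 1 := by
    rw [← hπ, PermSetup.card_fixedBy_one, hα]
    push_cast
    ring
  have h0 : ∀ y ∈ (P : Subgroup G), y ≠ 1 → 1 + ρ y + σ y = 0 := by
    intro y hy hy1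
    rw [← hπ, hfix y hy hy1, Nat.cast_zero]
  rcases main_aux h hρ hσ hρ1 hσ1 hdeg h0 with ⟨h1, h2⟩ | ⟨h1, h2⟩
  · obtain ⟨h3, h4⟩ := degrees h hρ hσ hdeg h2
    exact ⟨ρ, σ, hρ, hσ, h3, h4, h1, hπ⟩
  · obtain ⟨h3, h4⟩ := degrees h hσ hρ (by linear_combination hdeg) h2
    exact ⟨σ, ρ, hσ, hρ, h3, h4, h1, fun g => by rw [hπ g]; ring⟩

end Cfsg.Agent.H656.TwoPChar
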