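import Mathlib
import Cfsg.Agent.H656.DihedralP
import Cfsg.Agent.H656.PermSetup

/-!
# Fixed points of the involutions of `N_G(P)`
-/

set_option autoImplicit false
set_option linter.unusedSectionVars false

open Cfsg

namespace Cfsg.Agent.H656.TwoPFix

universe u v

variable {G : Type u} [Group G] [Finite G] {α : Type v} [Fintype α] [DecidableEq α] [MulAction G α]
  {p : ℕ} [Fact p.Prime] {P : Sylow p G}

open DihedralP

/-- The involutions of `N_G(P)` have at most two fixed points. -/
theorem card_le_two (h : Hyp P) (hα : Fintype.card α = 2 * p)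
    (hfree : ∀ y ∈ (P : Subgroup G), y ≠ 1 → ∀ a : α, y • a ≠ a) {x : G}
    (hx : x ∈ Subgroup.normalizer ((P : Subgroup G) : Set G)) (hxP : x ∉ (P : Subgroup G)) :
    Nat.card (MulAction.fixedBy α x) ≤ 2 := by
  have hpp : p.Prime := Fact.out
  have hP' : Nat.card (P : Subgroup G) = p := h.card
  have hinj : Function.Injective
      (fun q : ↥(P : Subgroup G) × ↥(MulAction.fixedBy α x) => (q.1 : G) • (q.2 : α)) := by
    rintro ⟨⟨y, hy⟩, ⟨a, ha⟩⟩ ⟨⟨y', hy'⟩, ⟨a', ha'⟩⟩ heq
    have ha1 : x • a = a := ha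
    have ha2 : x • a' = a' := ha'
    have heq' : y • a = y' • a' := heq
    set z : G := y'⁻¹ * y with hz
    have hzP : z ∈ (P : Subgroup G) := Subgroup.mul_mem _ (Subgroup.inv_mem _ hy') hy
    have h1 : z • a = a' := by
      rw [hz, mul_smul, heq', inv_smul_smul]
    have h2 : z⁻¹ • a = z • a := by
      calc z⁻¹ • a = (x * z * x⁻¹) • a := by rw [h.conj_eq_inv hx hxP hzP]
        _ = x • z • x⁻¹ • a := by rw [mul_smul, mul_smul]
        _ = x • z • a := by
          congr 2
          rw [inv_smul_eq_iff]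
          exact ha1.symm
        _ = z • a := by rw [h1, ha2]
    have h3 : (z * z) • a = a := by
      rw [mul_smul, ← h2, smul_inv_smul]
    have h4 : z = 1 := by
      by_contra hz1
      have h5 : z * z ≠ 1 := by
        intro h5
        have h6 := PermSetup.orderOf_eq hP' hzP hz1
        have h7 : orderOf z ∣ 2 := orderOf_dvd_of_pow_eq_one (by rw [sq, h5])
        rw [h6] at h7
        have h8 := Nat.le_of_dvd two_pos h7
        have h9 := h.five
        omega
      exact hfree _ (Subgroup.mul_mem _ hzP hzP) h5 a h3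
    have h5 : y = y' := by
      rw [hz, inv_mul_eq_one] at h4
      exact h4.symm
    have h6 : a = a' := by
      rw [h4, one_smul] at h1
      exact h1
    subst h5 h6
    rfl
  have h1 := Nat.card_le_card_of_injective _ hinj
  rw [Nat.card_prod, hP', Nat.card_eq_fintype_card (α := α), hα, mul_comm 2 p] at h1
  exact Nat.le_of_mul_le_mul_left h1 hpp.pos

/-- The involutions of `N_G(P)` have exactly two fixed points. -/
theorem card_eq_two (h : Hyp P) (hα : Fintype.card α = 2 * p)
    (hfree : ∀ y ∈ (P : Subgroup G), y ≠ 1 → ∀ a : α, y • a ≠ a)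
    (hsign : ∀ g : G, Equiv.Perm.sign (MulAction.toPerm g : Equiv.Perm α) = 1) {x : G}
    (hx : x ∈ Subgroup.normalizer ((P : Subgroup G) : Set G)) (hxP : x ∉ (P : Subgroup G)) :
    Nat.card (MulAction.fixedBy α x) = 2 := by
  have h1 := card_le_two h hα hfree hx hxP
  have h2 : (MulAction.toPerm x : Equiv.Perm α) ^ 2 = 1 := by
    ext a
    rw [sq]
    change x • x • a = a
    rw [smul_smul, h.mul_self_eq_one hx hxP, one_smul]
  have h3 : Fintype.card (Function.fixedPoints (MulAction.toPerm x : Equiv.Perm α)) =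
      Nat.card (MulAction.fixedBy α x) := by
    rw [← Nat.card_eq_fintype_card]
    rfl
  have h4 := Equiv.Perm.two_dvd_card_support h2
  have h5 := Equiv.Perm.card_fixedPoints (MulAction.toPerm x : Equiv.Perm α)
  rw [Equiv.Perm.sum_cycleType] at h5
  rw [h3, hα] at h5
  have h6 : (MulAction.toPerm x : Equiv.Perm α).support.card ≤ 2 * p := by
    rw [← hα]
    exact Finset.card_le_univ _
  have h7 := Equiv.Perm.sign_of_pow_two_eq_one h2
  rw [h3, hα, hsign] at h7
  have hp5 := h.five
  have hodd : Odd p := (Fact.out : p.Prime).odd_of_ne_two (by omega)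
  obtain ⟨k, hk⟩ := h4
  have h8 : Nat.card (MulAction.fixedBy α x) = 0 ∨ Nat.card (MulAction.fixedBy α x) = 2 := by
    omega
  rcases h8 with h8 | h8
  · exfalso
    rw [h8, Nat.sub_zero, Nat.mul_div_cancel_left _ two_pos, hodd.neg_one_pow] at h7
    exact absurd h7 (by decide)
  · exact h8

end Cfsg.Agent.H656.TwoPFix
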