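import Mathlib
import Cfsg.Agent.Lib.Dihedral
import Cfsg.Agent.Transfer.PGroupNormal
import Cfsg.Agent.H656.SignCycle

/-!
# Dihedral Sylow 2-subgroups

A group of even permutations of degree `2 p` in which all involutions have exactly two fixed points
and `|G|` and `p - 1` have the same `2`-part has dihedral Sylow 2-subgroups.
-/

set_option autoImplicit false

open Cfsg

namespace Cfsg.Agent.H656.TwoPSylow

variable {G : Type*} [Group G] [Finite G] {α : Type*} [Fintype α] [DecidableEq α] [MulAction G α]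

omit [Finite G] [Fintype α] [DecidableEq α] in
/-- The two fixed points of an involution. -/
theorem eq_or_eq (hinv : ∀ b : G, orderOf b = 2 → Nat.card (MulAction.fixedBy α b) = 2) {w : G}
    (hw : orderOf w = 2) {a b : α} (hab : a ≠ b) (ha : w • a = a) (hb : w • b = b) {x : α}
    (hx : w • x = x) : x = a ∨ x = b := by
  have h1 : (MulAction.fixedBy α w).ncard = 2 := hinv w hw
  rw [Set.ncard_eq_two] at h1
  obtain ⟨c, d, hcd, heq⟩ := h1
  have hmem : ∀ y, w • y = y → y = c ∨ y = d := by
    intro y hy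
    have h2 : y ∈ MulAction.fixedBy α w := hy
    rw [heq] at h2
    exact h2
  rcases hmem a ha with h1 | h1 <;> rcases hmem b hb with h2 | h2 <;>
    rcases hmem x hx with h3 | h3
  · exact absurd (h1.trans h2.symm) hab
  · exact absurd (h1.trans h2.symm) hab
  · left; rw [h1, h3]
  · right; rw [h2, h3]
  · right; rw [h2, h3]
  · left; rw [h1, h3]
  · exact absurd (h1.trans h2.symm) hab
  · exact absurd (h1.trans h2.symm) hab

theorem main [MulAction.IsPretransitive G α] {p : ℕ} (hp : Odd p) (hp3 : 3 ≤ p)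
    (hα : Fintype.card α = 2 * p)
    (hinv : ∀ b : G, orderOf b = 2 → Nat.card (MulAction.fixedBy α b) = 2)
    (hsign : ∀ g : G, Equiv.Perm.sign (MulAction.toPerm g : Equiv.Perm α) = 1)
    (h2 : (Nat.card G).factorization 2 = (p - 1).factorization 2) (S : Sylow 2 G) :
    ∃ n, 2 ≤ n ∧ Nonempty ((S : Subgroup G) ≃* DihedralGroup n) := by
  have hf2 : Fact (Nat.Prime 2) := ⟨Nat.prime_two⟩
  obtain ⟨m₀, hm₀⟩ := hp
  have hp1 : p - 1 ≠ 0 := by omega
  -- the order of `S`
  have hScard : Nat.card (S : Subgroup G) = 2 ^ (p - 1).factorization 2 := by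
    rw [← h2]
    exact Sylow.card_eq_multiplicity S
  have hSdvd : Nat.card (S : Subgroup G) ∣ p - 1 := by
    rw [hScard]
    exact Nat.ordProj_dvd _ _
  have hfac : 1 ≤ (p - 1).factorization 2 := by
    have h3 : 2 ∣ p - 1 := ⟨m₀, by omega⟩
    exact Nat.Prime.factorization_pos_of_dvd Nat.prime_two hp1 h3
  have hSp : IsPGroup 2 (S : Subgroup G) := S.isPGroup'
  have hSnt : Nontrivial (S : Subgroup G) := by
    rw [← Finite.one_lt_card_iff_nontrivial, hScard]
    exact Nat.one_lt_two_pow (by omega)
  -- a central involution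
  obtain ⟨z, hzS, hz2, hzc⟩ : ∃ z : G, z ∈ (S : Subgroup G) ∧ orderOf z = 2 ∧
      ∀ s ∈ (S : Subgroup G), s * z = z * s := by
    have h3 := hSp.center_nontrivial
    have h4 : IsPGroup 2 (Subgroup.center (S : Subgroup G)) := hSp.to_subgroup _
    have h5 : 2 ∣ Nat.card (Subgroup.center (S : Subgroup G)) := by
      obtain ⟨k, hk, hk2⟩ := h4.nontrivial_iff_card.mp h3
      rw [hk2]
      exact dvd_pow_self 2 hk.ne'
    obtain ⟨z, hz⟩ := exists_prime_orderOf_dvd_card' 2 h5
    refine ⟨((z : (S : Subgroup G)) : G), (z : (S : Subgroup G)).2, ?_, ?_⟩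
    · rw [Subgroup.orderOf_coe, Subgroup.orderOf_coe]
      exact hz
    · intro s hs
      have h6 := Subgroup.mem_center_iff.mp z.2 ⟨s, hs⟩
      exact congrArg Subtype.val h6
  obtain ⟨a, b, hab, hzab⟩ := Set.ncard_eq_two.mp
    (show (MulAction.fixedBy α z).ncard = 2 from hinv z hz2)
  have hza : z • a = a := by
    have : a ∈ MulAction.fixedBy α z := by rw [hzab]; exact Set.mem_insert a _
    exact this
  have hzb : z • b = b := by
    have : b ∈ MulAction.fixedBy α z := by rw [hzab]; exact Set.mem_insert_of_mem a rfl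
    exact this
  -- `S` permutes `{a, b}`
  have hperm : ∀ s ∈ (S : Subgroup G), ∀ x, (x = a ∨ x = b) → (s • x = a ∨ s • x = b) := by
    intro s hs x hx
    apply eq_or_eq hinv hz2 hab hza hzb
    rw [smul_smul, ← hzc s hs, mul_smul]
    rcases hx with rfl | rfl
    · rw [hza]
    · rw [hzb]
  have hpa : ∀ s ∈ (S : Subgroup G), s • a = a ∨ s • a = b := fun s hs => hperm s hs a (Or.inl rfl)
  have hpb : ∀ s ∈ (S : Subgroup G), s • b = a ∨ s • b = b := fun s hs => hperm s hs b (Or.inr rfl)
  have hfixb : ∀ s ∈ (S : Subgroup G), s • a = a → s • b = b := by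
    intro s hs h
    rcases hpb s hs with h1 | h1
    · exfalso
      rw [← h] at h1
      exact hab (MulAction.injective s h1).symm
    · exact h1
  have hswap : ∀ s ∈ (S : Subgroup G), s • a = b → s • b = a := by
    intro s hs h
    rcases hpb s hs with h1 | h1
    · exact h1
    · exfalso
      exact hab (MulAction.injective s (h.trans h1.symm))
  -- `S` moves `a`
  have hexists : ∃ s ∈ (S : Subgroup G), s • a = b := by
    by_contra hcon
    push Not at hcon
    have hle : (S : Subgroup G) ≤ MulAction.stabilizer G a := by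
      intro s hs
      rw [MulAction.mem_stabilizer_iff]
      exact (hpa s hs).resolve_right (hcon s hs)
    have h3 : ¬ 2 ∣ (S : Subgroup G).index := S.not_dvd_index
    apply h3
    rw [← Subgroup.relIndex_mul_index hle, MulAction.index_stabilizer_of_transitive,
      Nat.card_eq_fintype_card, hα]
    exact Dvd.dvd.mul_left (Dvd.intro p rfl) _
  -- powers
  have hordpow : ∀ s ∈ (S : Subgroup G), ∃ j, orderOf s = 2 ^ j := by
    intro s hs
    obtain ⟨j, hj⟩ := IsPGroup.iff_orderOf.mp hSp ⟨s, hs⟩
    rw [Subgroup.orderOf_mk] at hj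
    exact ⟨j, hj⟩
  -- elements of `S` fixing `a`
  have hsemi : ∀ t ∈ (S : Subgroup G), t • a = a → t ≠ 1 → ∀ x, t • x = x → x = a ∨ x = b := by
    intro t ht hta ht1 x hx
    obtain ⟨j, hj⟩ := hordpow t ht
    have hj0 : j ≠ 0 := by
      rintro rfl
      rw [pow_zero, orderOf_eq_one_iff] at hj
      exact ht1 hj
    have h3 : orderOf (t ^ 2 ^ (j - 1)) = 2 := by
      obtain ⟨i, rfl⟩ : ∃ i, j = i + 1 := ⟨j - 1, by omega⟩
      rw [Nat.add_sub_cancel, orderOf_pow' _ (by positivity), hj,
        Nat.gcd_eq_right (pow_dvd_pow 2 (Nat.le_succ i)), pow_succ,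
        Nat.mul_div_cancel_left _ (by positivity)]
    have hfixpow : ∀ (y : α), t • y = y → ∀ k : ℕ, t ^ k • y = y := by
      intro y hy k
      induction k with
      | zero => rw [pow_zero, one_smul]
      | succ k ih => rw [pow_succ, mul_smul, hy, ih]
    exact eq_or_eq hinv h3 hab (hfixpow a hta _) (hfixpow b (hfixb t ht hta) _) (hfixpow x hx _)
  -- elements of `S` moving `a` are involutions
  have hinvol : ∀ s ∈ (S : Subgroup G), s • a = b → s * s = 1 := by
    intro s hs hsa
    by_contra hss
    obtain ⟨j, hj⟩ := hordpow s hs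
    have hj2 : 2 ≤ j := by
      by_contra hcon
      apply hss
      have h3 : orderOf s ∣ 2 := by
        rw [hj]
        have : j = 0 ∨ j = 1 := by omega
        rcases this with rfl | rfl
        · norm_num
        · norm_num
      have h4 := orderOf_dvd_iff_pow_eq_one.mp h3
      rwa [sq] at h4
    have hsb := hswap s hs hsa
    have h3 : Equiv.Perm.sign (MulAction.toPerm s : Equiv.Perm α) = -1 := by
      have hpowsmul : ∀ (k : ℕ) (x : α), ((MulAction.toPerm s : Equiv.Perm α) ^ k) x = s ^ k • x := by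
        intro k x
        have : (MulAction.toPerm s : Equiv.Perm α) = MulAction.toPermHom G α s := rfl
        rw [this, ← map_pow]
        rfl
      apply SignCycle.sign_eq (MulAction.toPerm s : Equiv.Perm α) hab hsa hsb (n := 2 ^ j)
      · positivity
      · ext x
        rw [hpowsmul, ← hj, pow_orderOf_eq_one, one_smul]
        rfl
      · intro x hxa hxb k hk
        rw [hpowsmul] at hk
        by_contra hndvd
        rw [← hj] at hndvd
        have hk1 : s ^ k ≠ 1 := fun h => hndvd (orderOf_dvd_of_pow_eq_one h)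
        have hkS : s ^ k ∈ (S : Subgroup G) := Subgroup.pow_mem _ hs k
        rcases hpa _ hkS with h4 | h4
        · rcases hsemi _ hkS h4 hk1 x hk with h5 | h5
          · exact hxa h5
          · exact hxb h5
        · by_cases h5 : s ^ k * s ^ k = 1
          · -- `k` is even
            rw [← pow_add, ← two_mul] at h5
            have h6 := orderOf_dvd_of_pow_eq_one h5
            rw [hj] at h6
            obtain ⟨i, rfl⟩ : ∃ i, j = i + 2 := ⟨j - 2, by omega⟩
            have h7 : 2 ^ (i + 1) ∣ k := by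
              have h8 : 2 ^ (i + 2) = 2 * 2 ^ (i + 1) := by ring
              rw [h8] at h6
              exact Nat.dvd_of_mul_dvd_mul_left two_pos h6
            obtain ⟨l, hl⟩ : 2 ∣ k := (dvd_pow_self 2 (Nat.succ_ne_zero i)).trans h7
            have h8 : ∀ l : ℕ, s ^ (2 * l) • a = a := by
              intro l
              induction l with
              | zero => rw [mul_zero, pow_zero, one_smul]
              | succ l ih =>
                have : s ^ (2 * (l + 1)) = s ^ (2 * l) * (s * s) := by
                  rw [← sq, ← pow_add]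
                  congr 1
                rw [this, mul_smul, mul_smul, hsa, hsb, ih]
            rw [hl, h8] at h4
            exact hab h4
          · have h6 : (s ^ k * s ^ k) • a = a := by
              rw [mul_smul, h4]
              exact hswap _ hkS h4
            rcases hsemi _ (Subgroup.mul_mem _ hkS hkS) h6 h5 x (by
              rw [mul_smul, hk, hk]) with h7 | h7
            · exact hxa h7
            · exact hxb h7
      · exact (Nat.one_lt_two_pow (by omega)).ne'
      · have h4 : 2 ^ j ∣ p - 1 := by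
          rw [← hj, ← Subgroup.orderOf_mk _ hs]
          exact (orderOf_dvd_natCard _).trans hSdvd
        obtain ⟨m, hm⟩ := h4
        refine ⟨m, ?_⟩
        rw [hα]
        have : 2 * 2 ^ j * m = 2 * (p - 1) := by rw [hm]; ring
        omega
    rw [hsign s] at h3
    exact absurd h3 (by decide)
  obtain ⟨s₀, hs₀, hs₀a⟩ := hexists
  have hs₀b := hswap s₀ hs₀ hs₀a
  have hs₀2 := hinvol s₀ hs₀ hs₀a
  have hs₀1 : s₀ ≠ 1 := by
    rintro rfl
    rw [one_smul] at hs₀a
    exact hab hs₀a
  have hs₀o : orderOf s₀ = 2 := orderOf_eq_prime (by rw [sq, hs₀2]) hs₀1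
  set T : Subgroup G := (S : Subgroup G) ⊓ MulAction.stabilizer G a with hT
  have hTS : T ≤ (S : Subgroup G) := inf_le_left
  have hTmem : ∀ {t : G}, t ∈ T ↔ t ∈ (S : Subgroup G) ∧ t • a = a := by
    intro t
    rw [hT, Subgroup.mem_inf, MulAction.mem_stabilizer_iff]
  have hinvert : ∀ t ∈ T, s₀ * t * s₀ = t⁻¹ := by
    intro t ht
    have h3 : (s₀ * t) * (s₀ * t) = 1 := by
      apply hinvol _ (Subgroup.mul_mem _ hs₀ (hTS ht))
      rw [mul_smul, (hTmem.mp ht).2, hs₀a]
    rw [eq_inv_iff_mul_eq_one, ← h3]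
    group
  have hTcomm : ∀ t ∈ T, ∀ t' ∈ T, t * t' = t' * t := by
    intro t ht t' ht'
    have h3 := hinvert _ (T.mul_mem (T.inv_mem ht') (T.inv_mem ht))
    have h4 : s₀ * (t'⁻¹ * t⁻¹) * s₀ = (s₀ * t'⁻¹ * s₀) * (s₀ * t⁻¹ * s₀) := by
      calc s₀ * (t'⁻¹ * t⁻¹) * s₀ = s₀ * t'⁻¹ * 1 * t⁻¹ * s₀ := by group
        _ = s₀ * t'⁻¹ * (s₀ * s₀) * t⁻¹ * s₀ := by rw [hs₀2]
        _ = _ := by group
    rw [h4, hinvert _ (T.inv_mem ht'), hinvert _ (T.inv_mem ht), inv_inv, inv_inv, mul_inv_rev,
      inv_inv, inv_inv] at h3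
    exact h3.symm
  have hzT : z ∈ T := hTmem.mpr ⟨hzS, hza⟩
  -- the involutions of `T`
  have huniq : ∀ t ∈ T, t * t = 1 → t = 1 ∨ t = z := by
    obtain ⟨c, d, hcd, hs₀cd⟩ := Set.ncard_eq_two.mp
      (show (MulAction.fixedBy α s₀).ncard = 2 from hinv s₀ hs₀o)
    have hc : s₀ • c = c := by
      have : c ∈ MulAction.fixedBy α s₀ := by rw [hs₀cd]; exact Set.mem_insert c _
      exact this
    have hd : s₀ • d = d := by
      have : d ∈ MulAction.fixedBy α s₀ := by rw [hs₀cd]; exact Set.mem_insert_of_mem c rfl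
      exact this
    have hca : c ≠ a := by
      rintro rfl
      rw [hc] at hs₀a
      exact hab hs₀a
    have hcb : c ≠ b := by
      rintro rfl
      rw [hc] at hs₀b
      exact hab hs₀b.symm
    have key : ∀ t ∈ T, t * t = 1 → t ≠ 1 → t • c = d := by
      intro t ht htt ht1
      have h3 : t⁻¹ = t := inv_eq_of_mul_eq_one_left htt
      have h4 := hinvert t ht
      rw [h3] at h4
      have h5 : s₀ * t = t * s₀ := by
        calc s₀ * t = s₀ * t * (s₀ * s₀) := by rw [hs₀2, mul_one]
          _ = (s₀ * t * s₀) * s₀ := by group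
          _ = t * s₀ := by rw [h4]
      have h6 : s₀ • (t • c) = t • c := by
        rw [smul_smul, h5, mul_smul, hc]
      rcases eq_or_eq hinv hs₀o hcd hc hd h6 with h7 | h7
      · exfalso
        rcases hsemi t (hTS ht) (hTmem.mp ht).2 ht1 c h7 with h8 | h8
        · exact hca h8
        · exact hcb h8
      · exact h7
    intro t ht htt
    by_cases ht1 : t = 1
    · exact Or.inl ht1
    right
    have hzz : z * z = 1 := by
      rw [← sq, ← hz2, pow_orderOf_eq_one]
    have hz1 : z ≠ 1 := by
      rintro rfl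
      rw [orderOf_one] at hz2
      norm_num at hz2
    have h3 := key t ht htt ht1
    have h4 := key z hzT hzz hz1
    by_contra hne
    have h5 : z⁻¹ * t ∈ T := T.mul_mem (T.inv_mem hzT) ht
    have h6 : z⁻¹ * t ≠ 1 := by
      intro h
      apply hne
      rw [inv_mul_eq_one] at h
      exact h.symm
    have h7 : (z⁻¹ * t) • c = c := by
      rw [mul_smul, h3, ← h4, inv_smul_smul]
    rcases hsemi _ (hTS h5) (hTmem.mp h5).2 h6 c h7 with h8 | h8
    · exact hca h8
    · exact hcb h8
  -- `T` is cyclic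
  have hTcyc : IsCyclic T := by
    let _ : CommGroup T :=
      { (inferInstance : Group T) with
        mul_comm := fun x y => Subtype.ext (hTcomm x x.2 y y.2) }
    have hTp : IsPGroup 2 T := IsPGroup.to_le hSp hTS
    refine Cfsg.Agent.Transfer.PGroupNormal.isCyclic_of_card_ker_pow_le hTp ?_
    have h3 : (((powMonoidHom 2 : T →* T).ker : Subgroup T) : Set T) ⊆ {1, ⟨z, hzT⟩} := by
      intro x hx
      have h4 : x ^ 2 = 1 := hx
      have h5 : (x : G) * x = 1 := by
        have := congrArg Subtype.val h4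
        rw [sq] at this
        exact this
      rcases huniq x x.2 h5 with h6 | h6
      · left; exact Subtype.ext h6
      · right; exact Subtype.ext h6
    have h4 : (((powMonoidHom 2 : T →* T).ker : Subgroup T) : Set T).ncard ≤ 2 :=
      (Set.ncard_le_ncard h3 (Set.toFinite _)).trans (Set.ncard_insert_le _ _ |>.trans (by
        rw [Set.ncard_singleton]))
    exact h4
  obtain ⟨r, hr⟩ := hTcyc.exists_generator
  have hrT : Subgroup.zpowers (r : G) = T := by
    apply le_antisymm
    · rw [Subgroup.zpowers_le]; exact r.2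
    · intro t ht
      obtain ⟨k, hk⟩ := hr ⟨t, ht⟩
      exact ⟨k, congrArg Subtype.val hk⟩
  have hro : orderOf (r : G) = Nat.card T := by
    rw [← Nat.card_zpowers, hrT]
  have hTcard : 2 ≤ Nat.card T := by
    have h3 : orderOf (⟨z, hzT⟩ : T) ∣ Nat.card T := orderOf_dvd_natCard _
    rw [Subgroup.orderOf_mk, hz2] at h3
    exact Nat.le_of_dvd Nat.card_pos h3
  have hindex : (T.subgroupOf (S : Subgroup G)).index = 2 := by
    rw [Subgroup.index_eq_two_iff]
    refine ⟨⟨s₀, hs₀⟩, fun g => ?_⟩
    have h3 : g * ⟨s₀, hs₀⟩ ∈ T.subgroupOf (S : Subgroup G) ↔ (g : G) • b = a := by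
      rw [Subgroup.mem_subgroupOf, hTmem]
      constructor
      · rintro ⟨-, h⟩
        change ((g : G) * s₀) • a = a at h
        rw [mul_smul, hs₀a] at h
        exact h
      · intro h
        refine ⟨(g * ⟨s₀, hs₀⟩).2, ?_⟩
        change ((g : G) * s₀) • a = a
        rw [mul_smul, hs₀a, h]
    have h4 : g ∈ T.subgroupOf (S : Subgroup G) ↔ (g : G) • a = a := by
      rw [Subgroup.mem_subgroupOf, hTmem]
      exact ⟨fun h => h.2, fun h => ⟨g.2, h⟩⟩
    rw [h3, h4]
    rcases hpa g g.2 with h5 | h5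
    · right
      refine ⟨h5, ?_⟩
      rw [hfixb g g.2 h5]
      exact hab.symm
    · left
      refine ⟨hswap g g.2 h5, ?_⟩
      rw [h5]
      exact hab.symm
  have hScard2 : Nat.card (S : Subgroup G) = 2 * Nat.card T := by
    rw [← Subgroup.card_mul_index (T.subgroupOf (S : Subgroup G)), hindex, mul_comm,
      Nat.card_congr (Subgroup.subgroupOfEquivOfLe hTS).toEquiv]
  refine ⟨Nat.card T, hTcard, ?_⟩
  apply Cfsg.Agent.Lib.Dihedral.nonempty_mulEquiv_subgroup (by omega) (S : Subgroup G) (r : G) s₀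
    (hTS r.2) hs₀ hro hs₀2 (hinvert r r.2)
  · rw [hrT, hTmem]
    rintro ⟨-, h⟩
    rw [hs₀a] at h
    exact hab h.symm
  · exact hScard2

end Cfsg.Agent.H656.TwoPSylow
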